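import Cfsg.Agent.Coprime.Generation
import Cfsg.Agent.Core.MinimalNormal
import Cfsg.Agent.Core.Basics
import Cfsg.Agent.PrimeGraph.ThreePrimes

/-!
Fixed-point-free action of an element of prime order on a subgroup of the same group.

* `le_centralizer_of_frobenius` : if `c` is fixed-point-free on the abelian `U` and on `X`, where
  `X` normalises `U` with coprime order, then `X` centralises `U`.
* `isNilpotent_of_fpf` : a solvable group with a fixed-point-free automorphism of prime order is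
  nilpotent (Thompson's theorem in the solvable case).
-/

set_option autoImplicit false

open Subgroup
open scoped Pointwise commutatorElement

namespace Cfsg.Agent.FixedPointFree

universe u

variable {Γ : Type u} [Group Γ]

theorem centralizer_zpowers (c : Γ) :
    centralizer ((zpowers c : Subgroup Γ) : Set Γ) = centralizer {c} := by
  rw [zpowers_eq_closure, centralizer_closure]

theorem eq_one_of_fixed {X : Subgroup Γ} {c : Γ} (h : X ⊓ centralizer {c} = ⊥) {x : Γ} (hx : x ∈ X)
    (hcx : Commute c x) : x = 1 := by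
  rw [← mem_bot, ← h]
  exact ⟨hx, mem_centralizer_singleton_iff.mpr hcx.symm.eq⟩

theorem fixed_mono {X Y : Subgroup Γ} {S : Set Γ} (h : Y ⊓ centralizer S = ⊥) (hXY : X ≤ Y) :
    X ⊓ centralizer S = ⊥ :=
  le_bot_iff.mp ((inf_le_inf_right _ hXY).trans h.le)

/-- `g` normalises the commutator of subgroups it normalises. -/
theorem mem_normalizer_commutator {g : Γ} {U X : Subgroup Γ} (hU : g ∈ normalizer (U : Set Γ))
    (hX : g ∈ normalizer (X : Set Γ)) : g ∈ normalizer ((⁅U, X⁆ : Subgroup Γ) : Set Γ) := by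
  apply Coprime.mem_normalizer_of_conj_smul_eq
  rw [Coprime.conj_smul_eq_map, map_commutator, ← Coprime.conj_smul_eq_map,
    ← Coprime.conj_smul_eq_map, Coprime.conj_smul_eq_self_of_mem_normalizer hU,
    Coprime.conj_smul_eq_self_of_mem_normalizer hX]

theorem le_normalizer_commutator' {A U X : Subgroup Γ} (hU : A ≤ normalizer (U : Set Γ))
    (hX : A ≤ normalizer (X : Set Γ)) : A ≤ normalizer ((⁅U, X⁆ : Subgroup Γ) : Set Γ) :=
  fun _ ha => mem_normalizer_commutator (hU ha) (hX ha)

variable [Finite Γ]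

/-- A `q`-group acting without fixed points acts coprimely. -/
theorem coprime_of_fixed {q : ℕ} (hq : q.Prime) {P L : Subgroup Γ} (hP : IsPGroup q P)
    (hPL : P ≤ normalizer (L : Set Γ)) (hfix : L ⊓ centralizer (P : Set Γ) = ⊥) :
    (Nat.card P).Coprime (Nat.card L) := by
  have := Fact.mk hq
  let f : P →* MulAut L := L.normalizerMonoidHom.comp (inclusion hPL)
  letI : MulAction P L := MulAction.compHom L f
  have h1 := hP.card_modEq_card_fixedPoints L
  have h2 : MulAction.fixedPoints P L = {(1 : L)} := by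
    ext l
    simp only [MulAction.mem_fixedPoints, Set.mem_singleton_iff]
    constructor
    · intro h
      have : (l : Γ) ∈ L ⊓ centralizer (P : Set Γ) := by
        refine ⟨l.2, fun a ha => ?_⟩
        have h' : a * (l : Γ) * a⁻¹ = l := congrArg Subtype.val (h ⟨a, ha⟩)
        exact mul_inv_eq_iff_eq_mul.mp h'
      rw [hfix, mem_bot] at this
      exact Subtype.ext this
    · rintro rfl a
      exact map_one (f a)
  rw [h2, Nat.card_coe_set_eq, Set.ncard_singleton] at h1
  obtain ⟨n, hn⟩ := hP.exists_card_eq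
  rw [hn]
  refine (hq.coprime_iff_not_dvd.mpr fun h => ?_).pow_left n
  have h3 := (Nat.modEq_zero_iff_dvd.mpr h).symm.trans h1
  exact hq.not_dvd_one (Nat.modEq_zero_iff_dvd.mp h3.symm)

/-- Absence of fixed points passes to quotients. -/
theorem fixed_map_eq_bot {H : Type*} [Group H] (f : Γ →* H) {q : ℕ} (hq : q.Prime)
    {P L : Subgroup Γ} (hP : IsPGroup q P) (hPL : P ≤ normalizer (L : Set Γ)) (hker : f.ker ≤ L)
    (hfix : L ⊓ centralizer (P : Set Γ) = ⊥) :
    L.map f ⊓ centralizer ((P.map f : Subgroup H) : Set H) = ⊥ := by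
  have := Fact.mk hq
  have := hP.isNilpotent
  rw [← Coprime.map_inf_centralizer f hPL hker
    ((coprime_of_fixed hq hP hPL hfix).coprime_dvd_right (card_dvd_of_le hker))
    (Or.inl inferInstance), hfix, Subgroup.map_bot]

theorem isPGroup_zpowers {p : ℕ} {c : Γ} (hc : c ^ p = 1) : IsPGroup p (zpowers c) := by
  rintro ⟨x, hx⟩
  refine ⟨1, Subtype.ext ?_⟩
  obtain ⟨k, rfl⟩ := mem_zpowers_iff.mp hx
  change (c ^ k) ^ p ^ 1 = 1
  rw [pow_one, ← zpow_natCast, ← zpow_mul, mul_comm, zpow_mul, zpow_natCast, hc, one_zpow]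

/-- Fixed-point-free on `U` and `X` gives fixed-point-free on `U ⊔ X`. -/
theorem fixed_sup_eq_bot {U X : Subgroup Γ} {c : Γ} (hd : U ⊓ X = ⊥)
    (hXU : X ≤ normalizer (U : Set Γ)) (hcU : c ∈ normalizer (U : Set Γ))
    (hcX : c ∈ normalizer (X : Set Γ)) (hfU : U ⊓ centralizer {c} = ⊥)
    (hfX : X ⊓ centralizer {c} = ⊥) : (U ⊔ X) ⊓ centralizer {c} = ⊥ := by
  rw [eq_bot_iff]
  rintro g ⟨hg, hgc⟩
  obtain ⟨u, hu, x, hx, rfl⟩ := (Coprime.mem_sup_of_le_normalizer hXU).mp hg
  have hcomm : u * x * c = c * (u * x) := mem_centralizer_singleton_iff.mp hgc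
  have h1 : (c * u * c⁻¹) * (c * x * c⁻¹) = u * x := by
    calc (c * u * c⁻¹) * (c * x * c⁻¹) = c * (u * x) * c⁻¹ := by group
      _ = u * x := by rw [← hcomm, mul_inv_cancel_right]
  have h2 := Subgroup.mul_injective_of_disjoint (disjoint_iff.mpr hd)
    (a₁ := (⟨_, (mem_normalizer_iff.mp hcU u).mp hu⟩, ⟨_, (mem_normalizer_iff.mp hcX x).mp hx⟩))
    (a₂ := (⟨u, hu⟩, ⟨x, hx⟩)) h1
  simp only [Prod.mk.injEq, Subtype.mk.injEq] at h2
  rw [mem_bot, eq_one_of_fixed hfU hu (mul_inv_eq_iff_eq_mul.mp h2.1),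
    eq_one_of_fixed hfX hx (mul_inv_eq_iff_eq_mul.mp h2.2), one_mul]

/-- If `c` of prime order is fixed-point-free on the abelian group `U` and on `X`, and `X`
normalises `U` with coprime order, then `X` centralises `U`. -/
theorem le_centralizer_of_frobenius {p : ℕ} (hp : p.Prime) {c : Γ} (hc : c ^ p = 1)
    {U X : Subgroup Γ} [IsMulCommutative U] (hXU : X ≤ normalizer (U : Set Γ))
    (hcU : c ∈ normalizer (U : Set Γ)) (hcX : c ∈ normalizer (X : Set Γ))
    (hcop : (Nat.card X).Coprime (Nat.card U)) (hfU : U ⊓ centralizer {c} = ⊥)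
    (hfX : X ⊓ centralizer {c} = ⊥) : X ≤ centralizer (U : Set Γ) := by
  rw [le_centralizer_iff, ← commutator_eq_bot_iff_le_centralizer]
  set W := ⁅U, X⁆ with hW
  have hWU : W ≤ U := Coprime.commutator_le_of_le_normalizer hXU
  have hWc : IsMulCommutative W := ⟨⟨fun a b => Subtype.ext
    (setLike_mul_comm (hWU a.2) (hWU b.2))⟩⟩
  have hXW : X ≤ normalizer (W : Set Γ) :=
    le_sup_right.trans (Coprime.le_normalizer_commutator (K := U) (A := X))
  have hcW : c ∈ normalizer (W : Set Γ) := mem_normalizer_commutator hcU hcX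
  open scoped IsMulCommutative in
  have key : ∀ v : W, v ^ Nat.card (X.subgroupOf (normalizer (W : Set Γ))) = 1 := by
    intro v
    refine PrimeGraph.pow_card_eq_one_of_frobenius (normalizerMonoidHom W)
      (X.subgroupOf (normalizer (W : Set Γ))) ⟨c, hcW⟩ hp.pos (Subtype.ext (by simpa using hc))
      (fun b hb => (mem_normalizer_iff.mp hcX (b : Γ)).mp hb) ?_ ?_ ?_ v
    · intro i hi hip b hb hcom
      have h1 : Commute (c ^ i) (b : Γ) := by
        have := congrArg Subtype.val hcom.eq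
        simpa [Commute, SemiconjBy] using this
      obtain ⟨m, hm⟩ := exists_pow_eq_self_of_coprime (x := c) (n := i)
        (((hp.coprime_iff_not_dvd.mpr (Nat.not_dvd_of_pos_of_lt hi hip)).symm).coprime_dvd_right
          (orderOf_dvd_of_pow_eq_one hc))
      exact Subtype.ext (eq_one_of_fixed hfX hb (hm ▸ h1.pow_left m))
    · intro w hw
      have h1 : (w : Γ) ∈ (U ⊓ centralizer (X : Set Γ)) ⊓ W := by
        refine ⟨⟨hWU w.2, fun x hx => ?_⟩, w.2⟩
        have h' : x * (w : Γ) * x⁻¹ = w := congrArg Subtype.val (hw ⟨x, hXW hx⟩ hx)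
        exact mul_inv_eq_iff_eq_mul.mp h'
      have h2 : (w : Γ) = 1 := mem_bot.mp ((Coprime.abelian_decomposition hXU hcop).1.le h1)
      exact Subtype.ext h2
    · intro w hw
      have h' : c * (w : Γ) * c⁻¹ = w := congrArg Subtype.val hw
      exact Subtype.ext (eq_one_of_fixed hfU (hWU w.2) (mul_inv_eq_iff_eq_mul.mp h'))
  rw [eq_bot_iff]
  intro w hw
  have h1 : orderOf (⟨w, hw⟩ : W) ∣ 1 := by
    rw [← (hcop.coprime_dvd_right (card_dvd_of_le hWU)).gcd_eq_one]
    refine Nat.dvd_gcd ?_ (orderOf_dvd_natCard _)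
    rw [← Coprime.card_subgroupOf hXW]
    exact orderOf_dvd_of_pow_eq_one (key _)
  rw [Nat.dvd_one, orderOf_eq_one_iff] at h1
  exact mem_bot.mpr (congrArg Subtype.val h1)

/-- Conjugates of a Sylow subgroup of `K` by elements normalising `K` are congruent to it modulo
`V` when the image of `K` modulo `V` is nilpotent. -/
theorem conj_mem_mul_of_map_nilpotent {V K : Subgroup Γ} [V.Normal] (hVK : V ≤ K)
    (hnil : Group.IsNilpotent (K.map (QuotientGroup.mk' V))) {q : ℕ} [Fact q.Prime]
    (S : Sylow q K) {g : Γ} (hg : g ∈ normalizer (K : Set Γ)) {s : Γ}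
    (hs : s ∈ (S : Subgroup K).map K.subtype) :
    ∃ s' ∈ (S : Subgroup K).map K.subtype, ∃ v ∈ V, g * s * g⁻¹ = s' * v := by
  let f := (QuotientGroup.mk' V).subgroupMap K
  have hf : Function.Surjective f := (QuotientGroup.mk' V).subgroupMap_surjective K
  obtain ⟨s, hsS, rfl⟩ := hs
  set t : K := ⟨g * s * g⁻¹, (mem_normalizer_iff.mp hg (s : Γ)).mp s.2⟩ with ht
  obtain ⟨k, hk⟩ := (S.2.to_le (le_refl _)) ⟨s, hsS⟩
  have hn : (S.mapSurjective hf : Subgroup (K.map (QuotientGroup.mk' V))).Normal :=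
    (Group.isNilpotent_of_finite_tfae.out 0 3 rfl rfl).mp hnil q inferInstance _
  have htf : (f t) ^ q ^ k = 1 := by
    have h1 : (s : Γ) ^ q ^ k = 1 := by
      have := congrArg (fun x : (S : Subgroup K) => ((x : K) : Γ)) hk
      simpa using this
    rw [← map_pow]
    have h2 : t ^ q ^ k = 1 := Subtype.ext (by simp [ht, conj_pow, h1])
    rw [h2, map_one]
  have hmem : f t ∈ (S.mapSurjective hf : Subgroup (K.map (QuotientGroup.mk' V))) := by
    have hpg : IsPGroup q (zpowers (f t)) := IsPGroup.of_pow (isPGroup_zpowers (p := q ^ k) htf)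
    obtain ⟨T, hT⟩ := hpg.exists_le_sylow
    have hT' : T = S.mapSurjective hf := by
      obtain ⟨x, hx⟩ := MulAction.exists_smul_eq (K.map (QuotientGroup.mk' V)) (S.mapSurjective hf) T
      rw [← hx, Sylow.smul_eq_of_normal]
    exact hT' ▸ hT (mem_zpowers (f t))
  rw [Sylow.coe_mapSurjective] at hmem
  obtain ⟨s', hs', he⟩ := hmem
  refine ⟨(s' : Γ), mem_map_of_mem _ hs', (s' : Γ)⁻¹ * (t : Γ), ?_, by simp [ht]⟩
  have he' : ((s' : Γ) : Γ ⧸ V) = ((t : Γ) : Γ ⧸ V) := congrArg Subtype.val he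
  exact QuotientGroup.eq.mp he'

/-- `K` is nilpotent if `K/V` is, `V` is an `ℓ`-group and for each prime `q ≠ ℓ` some Sylow
`q`-subgroup of `K` centralises `V`. -/
theorem isNilpotent_of_map {V K : Subgroup Γ} [V.Normal] (hVK : V ≤ K)
    (hnil : Group.IsNilpotent (K.map (QuotientGroup.mk' V))) {l : ℕ} (hl : l.Prime)
    (hV : IsPGroup l V)
    (hc : ∀ q : ℕ, q.Prime → q ≠ l →
      ∃ S : Sylow q K, (S : Subgroup K).map K.subtype ≤ centralizer (V : Set Γ)) :
    Group.IsNilpotent K := by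
  refine (Group.isNilpotent_of_finite_tfae.out 0 3 rfl rfl).mpr fun q hq P => ?_
  suffices h : ∃ S : Sylow q K, (S : Subgroup K).Normal by
    obtain ⟨S, hS⟩ := h
    obtain ⟨x, hx⟩ := MulAction.exists_smul_eq K S P
    rw [← hx, Sylow.smul_eq_of_normal]
    exact hS
  have hKn : ∀ x : K, (x : Γ) ∈ normalizer (K : Set Γ) := fun x => le_normalizer x.2
  by_cases hql : q = l
  · subst hql
    refine ⟨P, ⟨fun s hs g => ?_⟩⟩
    obtain ⟨s', hs', v, hv, he⟩ :=
      conj_mem_mul_of_map_nilpotent hVK hnil P (hKn g) (mem_map_of_mem K.subtype hs)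
    obtain ⟨Q, hQ⟩ := ((hV.comap_subtype (K := K) : IsPGroup q (V.subgroupOf K))).exists_le_sylow
    obtain ⟨x, hx⟩ := MulAction.exists_smul_eq K Q P
    have hvP : (⟨v, hVK hv⟩ : K) ∈ (P : Subgroup K) := by
      rw [← hx, Sylow.coe_subgroup_smul, Coprime.mem_conj_smul]
      refine hQ ?_
      rw [mem_comap]
      simpa [mul_assoc] using (inferInstance : V.Normal).conj_mem v hv (x : Γ)⁻¹
    obtain ⟨s'', hs'', rfl⟩ := hs'
    have : g * s * g⁻¹ = s'' * ⟨v, hVK hv⟩ := Subtype.ext (by simpa using he)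
    rw [this]
    exact P.mul_mem hs'' hvP
  · obtain ⟨S, hS⟩ := hc q hq.out hql
    refine ⟨S, ⟨fun s hs g => ?_⟩⟩
    obtain ⟨s', hs', v, hv, he⟩ :=
      conj_mem_mul_of_map_nilpotent hVK hnil S (hKn g) (mem_map_of_mem K.subtype hs)
    obtain ⟨k, hk⟩ := S.2 ⟨s, hs⟩
    have hk' : (s : Γ) ^ q ^ k = 1 := by
      have := congrArg (fun x : (S : Subgroup K) => ((x : K) : Γ)) hk
      simpa using this
    obtain ⟨s'', hs'', rfl⟩ := hs'
    obtain ⟨j, hj⟩ := S.2 ⟨s'', hs''⟩
    have hj' : (s'' : Γ) ^ q ^ j = 1 := by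
      have := congrArg (fun x : (S : Subgroup K) => ((x : K) : Γ)) hj
      simpa using this
    have hcomm : Commute (K.subtype s'') v :=
      (mem_centralizer_iff.mp (hS (mem_map_of_mem _ hs'')) v hv).symm
    have hpow : (K.subtype s'' * v) ^ q ^ (k + j) = 1 := by
      rw [← he]
      simp only [Subgroup.coe_subtype]
      rw [conj_pow, pow_add, pow_mul, hk', one_pow, mul_one, mul_inv_cancel]
    have hs''p : (K.subtype s'') ^ q ^ (k + j) = 1 := by
      rw [Subgroup.coe_subtype, pow_add, mul_comm, pow_mul, hj', one_pow]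
    rw [hcomm.mul_pow, hs''p, one_mul] at hpow
    obtain ⟨i, hi⟩ := hV ⟨v, hv⟩
    have hi' : v ^ l ^ i = 1 := congrArg Subtype.val hi
    have hv1 : v = 1 := by
      rw [← orderOf_eq_one_iff, ← Nat.dvd_one,
        ← ((Nat.coprime_primes hq.out hl).mpr hql |>.pow (k + j) i).gcd_eq_one]
      exact Nat.dvd_gcd (orderOf_dvd_of_pow_eq_one hpow) (orderOf_dvd_of_pow_eq_one hi')
    have : g * s * g⁻¹ = s'' := Subtype.ext (by simpa [hv1] using he)
    rw [this]
    exact hs''

theorem card_map_quotient_lt {V L : Subgroup Γ} [V.Normal] (hVL : V ≤ L) (hV : V ≠ ⊥) :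
    Nat.card (L.map (QuotientGroup.mk' V)) < Nat.card L := by
  rw [← relIndex_ker, QuotientGroup.ker_mk']
  have h := relIndex_mul_relIndex ⊥ V L bot_le hVL
  rw [relIndex_bot_left, relIndex_bot_left] at h
  rw [← h]
  refine lt_mul_of_one_lt_left (Nat.pos_of_ne_zero fun h0 => ?_) ?_
  · rw [h0, mul_zero] at h
    exact Nat.card_pos.ne h
  · exact (Finite.one_lt_card_iff_nontrivial.mpr ((nontrivial_iff_ne_bot V).mpr hV))

/-- Thompson's theorem, solvable case, for a normal subgroup. -/
theorem isNilpotent_of_fpf_normal {p : ℕ} (hp : p.Prime) :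
    ∀ n : ℕ, ∀ {Δ : Type u} [Group Δ] [Finite Δ] (L : Subgroup Δ) [L.Normal] (c : Δ),
      c ^ p = 1 → Group.IsSolvable L → L ⊓ centralizer {c} = ⊥ → Nat.card L ≤ n →
      Group.IsNilpotent L := by
  intro n
  induction n with
  | zero => intro Δ _ _ L _ c _ _ _ h; exact absurd h (by have := Nat.card_pos (α := L); omega)
  | succ n ih =>
    intro Δ _ _ L hLn c hc hsolv hfix hn
    by_cases hL : L = ⊥
    · subst hL; infer_instance
    obtain ⟨V, hVL, hV⟩ := Core.exists_isMinNormal_le hL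
    have := hV.normal
    have : Group.IsSolvable V := Core.isSolvable_mono hsolv hVL
    have := hV.isMulCommutative
    obtain ⟨l, hl, hVl, -⟩ := hV.exists_isPGroup
    have := Fact.mk hp
    set π := QuotientGroup.mk' V
    have hker : π.ker ≤ L := by rw [QuotientGroup.ker_mk']; exact hVL
    have hPL : zpowers c ≤ normalizer (L : Set Δ) := le_normalizer_of_normal
    have hfix' : L ⊓ centralizer ((zpowers c : Subgroup Δ) : Set Δ) = ⊥ := by
      rwa [centralizer_zpowers]
    have hnil : Group.IsNilpotent (L.map π) := by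
      have := hLn.map π (QuotientGroup.mk'_surjective V)
      refine ih (L.map π) (π c) (by rw [← map_pow, hc, map_one]) (Core.isSolvable_map hsolv π) ?_
        (Nat.lt_succ_iff.mp ((card_map_quotient_lt hVL hV.ne_bot).trans_le hn))
      have h := fixed_map_eq_bot π hp (isPGroup_zpowers hc) hPL hker hfix'
      rwa [MonoidHom.map_zpowers, centralizer_zpowers] at h
    have hcop := coprime_of_fixed hp (isPGroup_zpowers hc) hPL hfix'
    refine isNilpotent_of_map hVL hnil hl hVl fun q hq hql => ?_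
    have := Fact.mk hq
    obtain ⟨S, hS⟩ := Coprime.exists_invariant_sylow (p := q) hPL hcop (Or.inr hsolv)
    refine ⟨S, le_centralizer_of_frobenius hp hc le_normalizer_of_normal
      (mem_normalizer_iff.mpr fun x => ⟨fun hx => (inferInstance : V.Normal).conj_mem x hx c,
        fun hx => by simpa [mul_assoc] using (inferInstance : V.Normal).conj_mem _ hx c⁻¹⟩)
      (hS (mem_zpowers c)) ?_ (fixed_mono hfix hVL) (fixed_mono hfix (map_subtype_le _))⟩
    have := Fact.mk hl
    obtain ⟨a, ha⟩ := (S.2.map L.subtype).exists_card_eq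
    obtain ⟨b, hb⟩ := hVl.exists_card_eq
    rw [ha, hb]
    exact ((Nat.coprime_primes hq hl).mpr hql).pow a b

/-- Thompson's theorem, solvable case. -/
theorem isNilpotent_of_fpf {p : ℕ} (hp : p.Prime) {L : Subgroup Γ} {c : Γ} (hc : c ^ p = 1)
    (hcL : c ∈ normalizer (L : Set Γ)) (hsolv : Group.IsSolvable L)
    (hfix : L ⊓ centralizer {c} = ⊥) : Group.IsNilpotent L := by
  have h := isNilpotent_of_fpf_normal hp (Nat.card L) (L.subgroupOf (normalizer (L : Set Γ)))
    ⟨c, hcL⟩ (Subtype.ext (by simpa using hc))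
    (Coprime.isSolvable_subgroupOf _ hsolv) (by
      rw [eq_bot_iff]
      rintro x ⟨hx, hxc⟩
      have h1 : Commute c (x : Γ) := by
        have := congrArg Subtype.val (mem_centralizer_singleton_iff.mp hxc)
        exact (show Commute (x : Γ) c from this).symm
      exact mem_bot.mpr (Subtype.ext (eq_one_of_fixed hfix hx h1)))
    (Coprime.card_subgroupOf le_normalizer).le
  exact (Group.isNilpotent_congr (subgroupOfEquivOfLe le_normalizer)).mp h

/-- In a solvable group with a fixed-point-free element of prime order, subgroups of coprime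
prime power order commute. -/
theorem le_centralizer_of_fpf {p : ℕ} (hp : p.Prime) {L X Y : Subgroup Γ} {c : Γ} (hc : c ^ p = 1)
    (hcL : c ∈ normalizer (L : Set Γ)) (hsolv : Group.IsSolvable L)
    (hfix : L ⊓ centralizer {c} = ⊥) {q r : ℕ} (hq : q.Prime) (hr : r.Prime) (hqr : q ≠ r)
    (hX : IsPGroup q X) (hY : IsPGroup r Y) (hXL : X ≤ L) (hYL : Y ≤ L) :
    X ≤ centralizer (Y : Set Γ) := by
  have := Fact.mk hq
  have := Fact.mk hr
  have hnil := isNilpotent_of_fpf hp hc hcL hsolv hfix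
  obtain ⟨P, hP⟩ := (hX.comap_subtype (K := L) : IsPGroup q (X.subgroupOf L)).exists_le_sylow
  obtain ⟨Q, hQ⟩ := (hY.comap_subtype (K := L) : IsPGroup r (Y.subgroupOf L)).exists_le_sylow
  have hPn := (Group.isNilpotent_of_finite_tfae.out 0 3 rfl rfl).mp hnil q inferInstance P
  have hQn := (Group.isNilpotent_of_finite_tfae.out 0 3 rfl rfl).mp hnil r inferInstance Q
  intro x hx y hy
  have h := Subgroup.commute_of_normal_of_disjoint _ _ hPn hQn
    (IsPGroup.disjoint_of_ne q r hqr _ _ P.2 Q.2) ⟨x, hXL hx⟩ ⟨y, hYL hy⟩ (hP hx) (hQ hy)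
  exact (congrArg Subtype.val h.eq).symm

end Cfsg.Agent.FixedPointFree
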