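import Mathlib
import Cfsg.Agent.Core.Fitting
import Cfsg.Agent.Core.PCore
import Cfsg.Agent.Core.MinimalNormal

/-!
Fixed-point-free automorphisms `σ` with `σ ^ 4 = 1`: a solvable group admitting one has nilpotent
derived subgroup.
-/

namespace Cfsg.Agent.FixedPointFree

open Subgroup

variable {H : Type*} [Group H]

theorem injective_inv_mul_apply (σ : MulAut H) (hfpf : ∀ h, σ h = h → h = 1) :
    Function.Injective fun h => h⁻¹ * σ h := by
  intro a b hab
  have h1 : a⁻¹ * σ a = b⁻¹ * σ b := hab
  have h2 : σ (b * a⁻¹) = b * a⁻¹ := by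
    rw [map_mul, map_inv]
    calc σ b * (σ a)⁻¹ = b * (b⁻¹ * σ b) * (σ a)⁻¹ := by group
      _ = b * (a⁻¹ * σ a) * (σ a)⁻¹ := by rw [h1]
      _ = b * a⁻¹ := by group
  exact (mul_inv_eq_one.mp (hfpf _ h2)).symm

/-- A fixed-point-free automorphism with square the identity inverts everything. -/
theorem eq_inv_of_involutive [Finite H] (σ : MulAut H) (hfpf : ∀ h, σ h = h → h = 1)
    (h2 : ∀ h, σ (σ h) = h) (h : H) : σ h = h⁻¹ := by
  obtain ⟨a, ha⟩ := Finite.surjective_of_injective (injective_inv_mul_apply σ hfpf) h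
  rw [← ha]
  simp only [map_mul, map_inv, h2, mul_inv_rev, inv_inv]

theorem isMulCommutative_of_involutive [Finite H] (σ : MulAut H) (hfpf : ∀ h, σ h = h → h = 1)
    (h2 : ∀ h, σ (σ h) = h) : IsMulCommutative H := by
  refine ⟨⟨fun a b => inv_injective ?_⟩⟩
  rw [mul_inv_rev, mul_inv_rev, ← eq_inv_of_involutive σ hfpf h2 a,
    ← eq_inv_of_involutive σ hfpf h2 b, ← map_mul, eq_inv_of_involutive σ hfpf h2 (b * a),
    mul_inv_rev, eq_inv_of_involutive σ hfpf h2 a, eq_inv_of_involutive σ hfpf h2 b]

/-- The fixed-point-free property passes to quotients by invariant normal subgroups. -/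
theorem fpf_quotient [Finite H] (σ : MulAut H) (hfpf : ∀ h, σ h = h → h = 1) (N : Subgroup H)
    [N.Normal] (hN : N.map σ.toMonoidHom = N) (τ : MulAut (H ⧸ N))
    (hτ : ∀ g : H, τ (g : H ⧸ N) = ((σ g : H) : H ⧸ N)) (q : H ⧸ N) (hq : τ q = q) : q = 1 := by
  obtain ⟨g, rfl⟩ := QuotientGroup.mk_surjective q
  rw [hτ, eq_comm, QuotientGroup.eq] at hq
  have hmem : ∀ n ∈ N, σ n ∈ N := fun n hn => hN ▸ mem_map_of_mem _ hn
  let f : N → N := fun n => ⟨(n : H)⁻¹ * σ n, N.mul_mem (N.inv_mem n.2) (hmem n n.2)⟩
  have hf : Function.Injective f := fun a b hab =>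
    Subtype.ext (injective_inv_mul_apply σ hfpf (congrArg Subtype.val hab))
  obtain ⟨n, hn⟩ := Finite.surjective_of_injective hf ⟨g⁻¹ * σ g, hq⟩
  rw [← injective_inv_mul_apply σ hfpf (congrArg Subtype.val hn), QuotientGroup.eq_one_iff]
  exact n.2

/-- A group with a fixed-point-free automorphism of 2-power order has odd order. -/
theorem odd_card [Finite H] (σ : MulAut H) (hσ : σ ^ 4 = 1) (hfpf : ∀ h, σ h = h → h = 1) :
    Odd (Nat.card H) := by
  have hp : IsPGroup 2 (zpowers σ) := fun a => ⟨2, by
    obtain ⟨k, hk⟩ := a.2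
    apply Subtype.ext
    change (a : MulAut H) ^ (2 ^ 2) = 1
    rw [← hk, show (2 : ℕ) ^ 2 = 4 from rfl, ← zpow_natCast, ← zpow_mul, mul_comm, zpow_mul,
      zpow_natCast, hσ, one_zpow]⟩
  have h1 : MulAction.fixedPoints (zpowers σ) H = {1} := by
    ext h
    simp only [MulAction.mem_fixedPoints, Set.mem_singleton_iff]
    refine ⟨fun hh => hfpf h (hh ⟨σ, mem_zpowers σ⟩), ?_⟩
    rintro rfl a
    exact map_one (a : MulAut H)
  have := hp.card_modEq_card_fixedPoints H
  rw [h1, Nat.card_eq_fintype_card (α := ({1} : Set H)), Fintype.card_unique] at this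
  exact Nat.odd_iff.mpr this

theorem eq_one_of_mul_self [Finite H] (hodd : Odd (Nat.card H)) {h : H} (hh : h * h = 1) :
    h = 1 := by
  have h1 : orderOf h ∣ 2 := orderOf_dvd_of_pow_eq_one (by rw [pow_two, hh])
  rcases (Nat.dvd_prime Nat.prime_two).mp h1 with h2 | h2
  · exact orderOf_eq_one_iff.mp h2
  · exact absurd (h2 ▸ orderOf_dvd_natCard h) hodd.not_two_dvd_nat

theorem commute_of_commute_sq [Finite H] (hodd : Odd (Nat.card H)) {u f : H}
    (h : Commute (u * u) f) : Commute u f := by
  obtain ⟨m, hm⟩ := hodd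
  have h1 : (u * u) ^ (m + 1) = u := by
    rw [← pow_two, ← pow_mul, show 2 * (m + 1) = Nat.card H + 1 by omega, pow_succ,
      pow_card_eq_one', one_mul]
  exact h1 ▸ h.pow_left (m + 1)

/-- If `K` acts on `V` compatibly with fixed-point-free automorphisms, with `|K|` prime to the
exponent of `V`, and the square of the automorphism inverts `K`, then `K` acts trivially. -/
theorem trivial_of_inverted {K : Type*} [CommGroup K] [Finite K] (τ : MulAut K)
    (hτ : ∀ k, τ (τ k) = k⁻¹) (hK : ∀ k : K, k * k = 1 → k = 1) {V : Type*} [CommGroup V]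
    (sv : MulAut V) (hsv : sv ^ 4 = 1) (hfix : ∀ v, sv v = v → v = 1) (ρ : K →* MulAut V)
    (hρ : ∀ k v, sv (ρ k v) = ρ (τ k) (sv v)) (n : ℕ) (hn : ∀ v : V, v ^ n = 1)
    (hco : (Nat.card K).Coprime n) (k0 : K) (v0 : V) : ρ k0 v0 = v0 := by
  have := Fintype.ofFinite K
  have h4 : ∀ v, sv (sv (sv (sv v))) = v := fun v => by
    have := DFunLike.congr_fun hsv v
    simpa [pow_succ] using this
  have hsum : ∀ w : V, w * sv w * sv (sv w) * sv (sv (sv w)) = 1 := fun w => hfix _ <| by
    simp only [map_mul, h4]
    ac_rfl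
  have hfix1 : ∀ k : K, τ k = k → k = 1 := fun k h1 => by
    have := hτ k
    rw [h1, h1] at this
    exact hK k (mul_eq_one_iff_eq_inv.mpr this)
  have b1 : Function.Bijective fun k : K => k * (τ k)⁻¹ :=
    Finite.injective_iff_bijective.mp fun a b hab => by
      have : τ (a / b) = a / b := by
        simp only [← div_eq_mul_inv] at hab
        rw [map_div]
        exact (div_eq_div_iff_div_eq_div.mp hab).symm
      exact div_eq_one.mp (hfix1 _ this)
  have b2 : Function.Bijective fun k : K => k * k :=
    Finite.injective_iff_bijective.mp fun a b hab => div_eq_one.mp <| hK _ <| by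
      rw [div_mul_div_comm, hab, div_self']
  have b3 : Function.Bijective fun k : K => k * τ k :=
    Finite.injective_iff_bijective.mp fun a b hab => div_eq_one.mp <| by
      have h1 : τ (a / b) = (a / b)⁻¹ := by
        apply eq_inv_of_mul_eq_one_right
        rw [map_div, div_mul_div_comm, hab, div_self']
      have h2 := hτ (a / b)
      rw [h1, map_inv, h1, inv_inv] at h2
      exact hK _ (mul_eq_one_iff_eq_inv.mpr h2)
  let P : V → V := fun v => ∏ k, ρ k v
  have hPone : P 1 = 1 := Finset.prod_eq_one fun k _ => map_one _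
  have hPmul : ∀ a b : V, P (a * b) = P a * P b := fun a b => by
    simp only [P, map_mul, Finset.prod_mul_distrib]
  have key : P v0 = v0 ^ Fintype.card K := by
    have e1 : ∏ k : K, (v0 * ρ (k * (τ k)⁻¹) (sv v0) * ρ (k * k) (sv (sv v0)) *
        ρ (k * τ k) (sv (sv (sv v0)))) = 1 := Finset.prod_eq_one fun k _ => by
      have := congrArg (ρ k) (hsum (ρ k⁻¹ v0))
      have c : ∀ a b v, ρ a (ρ b v) = ρ (a * b) v := fun a b v => by rw [map_mul ρ]; rfl
      rw [map_mul, map_mul, map_mul, map_one] at this
      simp only [hρ, c] at this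
      simpa only [map_inv τ, hτ, inv_inv, mul_inv_cancel, map_one, MulAut.one_apply] using this
    simp only [Finset.prod_mul_distrib, Finset.prod_const, Finset.card_univ,
      b1.prod_comp (fun k => ρ k (sv v0)), b2.prod_comp (fun k => ρ k (sv (sv v0))),
      b3.prod_comp (fun k => ρ k (sv (sv (sv v0))))] at e1
    have e2 : P v0 * P (sv v0) * P (sv (sv v0)) * P (sv (sv (sv v0))) = 1 := by
      rw [← hPmul, ← hPmul, ← hPmul, hsum, hPone]
    rw [← e2] at e1
    exact (mul_right_cancel (mul_right_cancel (mul_right_cancel e1))).symm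
  have hinv : ρ k0 (P v0) = P v0 := by
    simp only [P, map_prod, ← MulAut.mul_apply, ← map_mul]
    exact Fintype.prod_bijective (fun k => k0 * k) (Group.mulLeft_bijective k0) _ _ fun k => rfl
  rw [key, map_pow, ← Nat.card_eq_fintype_card] at hinv
  rcases eq_or_ne n 0 with rfl | hn0
  · rw [Nat.coprime_zero_right] at hco
    have : Subsingleton K := (Nat.card_eq_one_iff_unique.mp hco).1
    rw [Subsingleton.elim k0 1, map_one]; rfl
  rcases eq_or_ne n 1 with rfl | hn1
  · rw [← pow_one (ρ k0 v0), hn, ← pow_one v0, hn]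
  obtain ⟨u, -, hu⟩ := Nat.exists_mul_mod_eq_one_of_coprime hco (by omega)
  have hpow : ∀ w : V, (w ^ Nat.card K) ^ u = w := fun w => by
    rw [← pow_mul, pow_eq_pow_mod (Nat.card K * u) (hn w), hu, pow_one]
  simpa only [hpow] using congrArg (· ^ u) hinv

/-- The main lemma: a solvable group acting faithfully on `V`, compatibly with fixed-point-free
automorphisms of order dividing 4, with Fitting subgroup of order prime to the exponent of `V`, is
abelian. -/
theorem isMulCommutative_of_faithful [Finite H] [Group.IsSolvable H] (σ : MulAut H)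
    (hσ : σ ^ 4 = 1) (hfpf : ∀ h, σ h = h → h = 1) {V : Type*} [CommGroup V] (sv : MulAut V)
    (hsv : sv ^ 4 = 1) (hfix : ∀ v, sv v = v → v = 1) (ρ : H →* MulAut V)
    (hinj : Function.Injective ρ) (hρ : ∀ h v, sv (ρ h v) = ρ (σ h) (sv v)) (n : ℕ)
    (hn : ∀ v : V, v ^ n = 1) (hco : (Nat.card (fittingSubgroup H)).Coprime n) :
    IsMulCommutative H := by
  have hodd := odd_card σ hσ hfpf
  set x : H → H := fun h => σ (σ h) with hxdef
  have hx2 : ∀ h, x (x h) = h := fun h => by
    have := DFunLike.congr_fun hσ h
    simpa [pow_succ, x] using this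
  have hxmul : ∀ a b, x (a * b) = x a * x b := fun a b => by simp [x]
  have hxinv : ∀ a, x a⁻¹ = (x a)⁻¹ := fun a => by simp [x]
  set F := fittingSubgroup H with hF
  have hFσ : ∀ h ∈ F, σ h ∈ F := fun h hh =>
    (SetLike.ext_iff.mp (Core.map_fittingSubgroup σ) (σ h)).mp (mem_map_of_mem _ hh)
  have hzc : ∀ i, ∀ h : F, h ∈ Subgroup.upperCentralSeries F i → x (h : H) = h := by
    intro i
    induction i with
    | zero =>
      intro h hh
      rw [Subgroup.upperCentralSeries_zero, Subgroup.mem_bot] at hh
      simp [hh, x]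
    | succ i ih =>
      intro h hh
      let σF : MulAut F :=
        (σ.subgroupMap F).trans (MulEquiv.subgroupCongr (Core.map_fittingSubgroup σ))
      have hσF : ∀ a : F, ((σF a : F) : H) = σ a := fun a => rfl
      have hmem : ∀ (j : ℕ) (a : F), a ∈ Subgroup.upperCentralSeries F j →
          σF a ∈ Subgroup.upperCentralSeries F j := fun j a ha =>
        (characteristic_iff_le_comap.mp inferInstance σF) ha
      let u : F := h⁻¹ * σF (σF h)
      have huv : (u : H) = (h : H)⁻¹ * x h := by simp [u, x, hσF]
      suffices hu1 : (u : H) = 1 by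
        rw [huv, inv_mul_eq_one] at hu1
        exact hu1.symm
      have hu : u ∈ Subgroup.upperCentralSeries F (i + 1) :=
        mul_mem (inv_mem hh) (hmem _ _ (hmem _ _ hh))
      have hxu : x (u : H) = (u : H)⁻¹ := by
        rw [huv, hxmul, hxinv, hx2, mul_inv_rev, inv_inv]
      have hcomm : ∀ f : F, x (f : H) = f → Commute (u : H) f := by
        intro f hf
        apply commute_of_commute_sq hodd
        have h1 := ih _ (Subgroup.mem_upperCentralSeries_succ_iff.mp hu f)
        simp only [commutatorElement_def, Subgroup.coe_mul, Subgroup.coe_inv, hxmul, hxinv, hxu, hf, inv_inv] at h1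
        have h2 : (u : H) * ((u : H) * f) = (f : H) * u * u := by
          calc (u : H) * ((u : H) * f)
              = (u : H) * ((u : H) * f * (u : H)⁻¹ * (f : H)⁻¹) * f * u := by group
            _ = (u : H) * ((u : H)⁻¹ * f * u * (f : H)⁻¹) * f * u := by rw [h1]
            _ = (f : H) * u * u := by group
        change (u : H) * u * f = f * ((u : H) * u)
        rw [mul_assoc, h2, mul_assoc]
      let g : F := σF u
      have hxg : x (g : H) = (g : H)⁻¹ := by
        change x (σ (u : H)) = (σ (u : H))⁻¹
        rw [← map_inv, ← hxu]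
      let c : F := u * g * u⁻¹ * g⁻¹
      have hc := Subgroup.mem_upperCentralSeries_succ_iff.mp hu g
      have hxc : x (c : H) = c := ih c (by simpa only [commutatorElement_def] using hc)
      have hug : Commute (u : H) g := by
        have hcu : Commute (u : H) c := hcomm c hxc
        have hσc : σ (c : H) = c := by
          have hgg : σ (g : H) = (u : H)⁻¹ := by
            change σ (σ (u : H)) = _
            exact hxu
          have hgu : σ (u : H) = g := rfl
          calc σ (c : H) = (g : H) * (u : H)⁻¹ * (g : H)⁻¹ * u := by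
                simp only [c, Subgroup.coe_mul, Subgroup.coe_inv, map_mul, map_inv, hgg, hgu,
                  inv_inv]
            _ = (u : H)⁻¹ * ((u : H) * g * (u : H)⁻¹ * (g : H)⁻¹) * u := by group
            _ = (c : H) := by
                simp only [c, Subgroup.coe_mul, Subgroup.coe_inv] at hcu ⊢
                exact (hcu.inv_left.eq ▸ inv_mul_cancel_right _ _)
        have h3 := hfpf _ hσc
        simp only [c, Subgroup.coe_mul, Subgroup.coe_inv,
          mul_inv_eq_iff_eq_mul] at h3
        rw [one_mul] at h3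
        exact h3
      let K : Subgroup H := closure {(u : H), (g : H)}
      have hKc : IsMulCommutative K := isMulCommutative_closure (by
        rintro a (rfl | rfl) b (rfl | rfl) <;>
          first | rfl | exact hug.eq | exact hug.symm.eq)
      have hKF : K ≤ F := (closure_le F).mpr (by rintro a (rfl | rfl) <;> exact Subtype.coe_prop _)
      have hKσ : ∀ a ∈ K, σ a ∈ K := by
        intro a ha
        suffices K ≤ K.comap σ.toMonoidHom from this ha
        refine (closure_le _).mpr ?_
        rintro b (rfl | rfl)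
        · exact subset_closure (Or.inr rfl)
        · change σ (σ (u : H)) ∈ K
          rw [show σ (σ (u : H)) = (u : H)⁻¹ from hxu]
          exact inv_mem (subset_closure (Or.inl rfl))
      open scoped IsMulCommutative in
      have hKx : ∀ a ∈ K, x a = a⁻¹ := by
        intro a ha
        induction ha using closure_induction with
        | mem b hb => rcases hb with rfl | rfl <;> assumption
        | one => simp [x]
        | mul b d hb hd ihb ihd =>
          have : b * d = d * b := congrArg Subtype.val (mul_comm (⟨b, hb⟩ : K) ⟨d, hd⟩)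
          rw [hxmul, ihb, ihd, this, mul_inv_rev]
        | inv b _ ihb => rw [hxinv, ihb]
      let τ : MulAut K :=
        MulEquiv.ofBijective
          (MonoidHom.mk' (fun a : K => (⟨σ a, hKσ a a.2⟩ : K)) fun a b => Subtype.ext (map_mul σ _ _))
          (Finite.injective_iff_bijective.mp fun a b hab =>
            Subtype.ext (σ.injective (congrArg Subtype.val hab)))
      open scoped IsMulCommutative in
      have htriv := trivial_of_inverted τ (fun k => Subtype.ext (hKx k k.2))
        (fun k hk => Subtype.ext (eq_one_of_mul_self hodd (congrArg Subtype.val hk))) sv hsv hfix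
        (ρ.comp K.subtype) (fun k v => hρ k v) n hn
        (Nat.Coprime.coprime_dvd_left (card_dvd_of_le hKF) hco) ⟨u, subset_closure (Or.inl rfl)⟩
      exact (injective_iff_map_eq_one ρ).mp hinj _ (MulEquiv.ext htriv)
  have hFfix : ∀ f ∈ F, x f = f := fun f hf =>
    hzc (Group.nilpotencyClass F) ⟨f, hf⟩
      (by rw [Subgroup.upperCentralSeries_nilpotencyClass]; exact mem_top _)
  have hall : ∀ h, x h = h := by
    intro h
    have hc : h⁻¹ * x h ∈ centralizer (F : Set H) := by
      rw [mem_centralizer_iff]
      intro f hf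
      have h1 := hFfix _ ((inferInstance : F.Normal).conj_mem f hf h)
      rw [hxmul, hxmul, hxinv, hFfix f hf] at h1
      calc f * (h⁻¹ * x h) = h⁻¹ * (h * f * h⁻¹) * x h := by group
        _ = h⁻¹ * (x h * f * (x h)⁻¹) * x h := by rw [h1]
        _ = h⁻¹ * x h * f := by group
    have h2 := hFfix _ (Core.centralizer_fittingSubgroup_le hc)
    rw [hxmul, hxinv, hx2] at h2
    have h3 := eq_one_of_mul_self hodd (h := h⁻¹ * x h) (by
      nth_rewrite 2 [← h2]
      group)
    exact (inv_mul_eq_one.mp h3).symm
  exact isMulCommutative_of_involutive σ hfpf hall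

universe u

theorem isNilpotent_commutator_aux : ∀ (m : ℕ) (G : Type u) [Group G] [Finite G],
    Nat.card G ≤ m → Group.IsSolvable G → ∀ σ : MulAut G, σ ^ 4 = 1 →
      (∀ g, σ g = g → g = 1) → Group.IsNilpotent (commutator G) := by
  intro m
  induction m with
  | zero =>
    intro G _ _ hm
    exact absurd hm (by simp [Nat.card_pos.ne'])
  | succ m ih =>
    intro G _ _ hm hsol σ hσ hfpf
    by_cases htriv : (⊤ : Subgroup G) = ⊥
    · have : Subsingleton G := subsingleton_iff.mp (subsingleton_of_bot_eq_top htriv.symm)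
      infer_instance
    let S : Set (Subgroup G) := {N | N.Normal ∧ N ≠ ⊥ ∧ N.map σ.toMonoidHom = N}
    obtain ⟨V, ⟨hVn, hV1, hVσ⟩, hVmin⟩ := Set.Finite.exists_minimal (s := S) (Set.toFinite S)
      ⟨⊤, inferInstance, htriv, map_top_of_surjective _ σ.surjective⟩
    replace hVmin : ∀ W : Subgroup G, W.Normal → W.map σ.toMonoidHom = W → W ≤ V →
        W = ⊥ ∨ W = V := fun W hW1 hW2 hWV => or_iff_not_imp_left.mpr fun hWb =>
      le_antisymm hWV (hVmin ⟨hW1, hWb, hW2⟩ hWV)
    have hVab : IsMulCommutative V := by
      rcases hVmin ⁅V, V⁆ inferInstance (by rw [map_commutator, hVσ]) (commutator_le_self V)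
        with h | h
      · exact ⟨⟨fun a b => Subtype.ext
          (mem_centralizer_iff.mp (commutator_eq_bot_iff_le_centralizer.mp h b.2) a a.2)⟩⟩
      · exfalso
        exact (Group.IsSolvable.commutator_lt_of_ne_bot hV1).ne h
    open scoped IsMulCommutative in
    have key : Group.IsNilpotent (commutator G) := by
      obtain ⟨ℓ, hℓ, hℓV⟩ := Nat.exists_prime_and_dvd
        (n := Nat.card V) (fun h => hV1 (card_eq_one.mp h))
      have := Fact.mk hℓ
      obtain ⟨v1, hv1⟩ := exists_prime_orderOf_dvd_card' ℓ hℓV
      let W : Subgroup G := (powMonoidHom ℓ : V →* V).ker.map V.subtype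
      have hWmem : ∀ g, g ∈ W ↔ g ∈ V ∧ g ^ ℓ = 1 := by
        intro g
        constructor
        · rintro ⟨⟨a, ha⟩, hak, rfl⟩
          exact ⟨ha, congrArg Subtype.val hak⟩
        · rintro ⟨ha, hp⟩
          exact ⟨⟨g, ha⟩, Subtype.ext hp, rfl⟩
      have hWn : W.Normal := ⟨fun w hw g => by
        rw [hWmem] at hw ⊢
        exact ⟨hVn.conj_mem w hw.1 g, by rw [conj_pow, hw.2, mul_one, mul_inv_cancel]⟩⟩
      have hWσ : W.map σ.toMonoidHom = W := eq_of_le_of_card_ge (by
          rintro _ ⟨w, hw, rfl⟩
          rw [SetLike.mem_coe, hWmem] at hw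
          exact (hWmem _).mpr ⟨hVσ ▸ mem_map_of_mem _ hw.1, by
            rw [← map_pow, hw.2, map_one]⟩)
        (card_map_of_injective σ.injective).ge
      have hWV : W = V := (hVmin W hWn hWσ fun w hw => ((hWmem w).mp hw).1).resolve_left
        fun h => by
          have : (v1 : G) ∈ W := (hWmem _).mpr ⟨v1.2, by
            rw [← SubmonoidClass.coe_pow, ← hv1, pow_orderOf_eq_one]; rfl⟩
          rw [h, mem_bot] at this
          rw [orderOf_eq_one_iff.mpr (Subtype.ext this : v1 = 1)] at hv1
          exact hℓ.one_lt.ne hv1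
      have hexp : ∀ v : V, v ^ ℓ = 1 := fun v =>
        Subtype.ext ((hWmem v).mp (hWV.symm ▸ v.2)).2
      let sv : MulAut V := (σ.subgroupMap V).trans (MulEquiv.subgroupCongr hVσ)
      have hsvc : ∀ v : V, ((sv v : V) : G) = σ v := fun v => rfl
      let ρ0 : G →* MulAut V := MulAut.conjNormal
      have hρ0 : ∀ g v, sv (ρ0 g v) = ρ0 (σ g) (sv v) := fun g v => Subtype.ext (by
        simp [hsvc, ρ0, MulAut.conjNormal_apply])
      have hker : ρ0.ker.map σ.toMonoidHom = ρ0.ker := eq_of_le_of_card_ge (by
          rintro _ ⟨g, hg, rfl⟩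
          refine MulEquiv.ext fun w => ?_
          obtain ⟨w, rfl⟩ := sv.surjective w
          change ρ0 (σ g) (sv w) = _
          rw [← hρ0, MonoidHom.mem_ker.mp hg]
          rfl)
        (card_map_of_injective σ.injective).ge
      let τ : MulAut (G ⧸ ρ0.ker) := QuotientGroup.congr _ _ σ hker
      have hτ : ∀ g : G, τ (g : G ⧸ ρ0.ker) = ((σ g : G) : G ⧸ ρ0.ker) := fun g => rfl
      have hτ4 : τ ^ 4 = 1 := MulEquiv.ext fun q => by
        obtain ⟨g, rfl⟩ := QuotientGroup.mk_surjective q
        have h4 := DFunLike.congr_fun hσ g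
        simp only [pow_succ, pow_zero, one_mul, MulAut.mul_apply, hτ, MulAut.one_apply] at h4 ⊢
        rw [h4]
      have hτf : ∀ q, τ q = q → q = 1 := fpf_quotient σ hfpf _ hker τ hτ
      have hρe : ∀ q v, sv (QuotientGroup.kerLift ρ0 q v) =
          QuotientGroup.kerLift ρ0 (τ q) (sv v) := fun q v => by
        obtain ⟨g, rfl⟩ := QuotientGroup.mk_surjective q
        exact hρ0 g v
      have hsv4 : sv ^ 4 = 1 := MulEquiv.ext fun v => Subtype.ext (by
        have h4 := DFunLike.congr_fun hσ (v : G)
        simp only [pow_succ, pow_zero, one_mul, MulAut.mul_apply, MulAut.one_apply, hsvc] at h4 ⊢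
        exact h4)
      have hco : (Nat.card (fittingSubgroup (G ⧸ ρ0.ker))).Coprime ℓ := by
        rw [Nat.coprime_comm, hℓ.coprime_iff_not_dvd]
        intro hdvd
        set H := G ⧸ ρ0.ker
        obtain ⟨P⟩ : Nonempty (Sylow ℓ (fittingSubgroup H)) := inferInstance
        have hPn : (P : Subgroup (fittingSubgroup H)).Normal := inferInstance
        have := P.characteristic_of_normal hPn
        let Q : Subgroup H := (P : Subgroup (fittingSubgroup H)).map (fittingSubgroup H).subtype
        have hQp : IsPGroup ℓ Q := P.2.map _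
        have hQ1 : Q ≠ ⊥ := fun h => by
          rw [(map_eq_bot_iff_of_injective _ (subtype_injective _))] at h
          exact P.ne_bot_of_dvd_card hdvd h
        -- the fixed points of `O_ℓ(H)` are a nontrivial invariant normal subgroup inside `V`
        let R : Subgroup H := Cfsg.pCore ℓ H
        have hQR : Q ≤ R := Core.le_pCore hQp
        let U : Subgroup V :=
          { carrier := {v | ∀ r ∈ R, QuotientGroup.kerLift ρ0 r v = v}
            one_mem' := fun r _ => map_one _
            mul_mem' := fun {a b} ha hb r hr => by rw [map_mul, ha r hr, hb r hr]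
            inv_mem' := fun {a} ha r hr => by rw [map_inv, ha r hr] }
        let act : MulAction R V := MulAction.compHom V
          ((QuotientGroup.kerLift ρ0).comp R.subtype)
        have hU1 : ∃ w, w ∈ U ∧ w ≠ 1 := by
          obtain ⟨w, hw, hne⟩ := (Core.pCore_isPGroup (p := ℓ) (G := H))
            |>.exists_fixed_point_of_prime_dvd_card_of_fixed_point V hℓV (a := (1 : V))
              (fun r => map_one ((QuotientGroup.kerLift ρ0).comp R.subtype r))
          exact ⟨w, fun r hr => hw ⟨r, hr⟩, hne.symm⟩
        have hUn : (U.map V.subtype).Normal := ⟨by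
          rintro _ ⟨w, hw, rfl⟩ g
          refine ⟨ρ0 g w, fun r hr => ?_, rfl⟩
          change QuotientGroup.kerLift ρ0 r (QuotientGroup.kerLift ρ0 (g : H) w) = _
          have hr' : (g : H)⁻¹ * r * g ∈ R := by
            have h6 := (Core.pCore_normal (p := ℓ) (G := H)).conj_mem r hr (g : H)⁻¹
            convert h6 using 2
            exact (inv_inv _).symm
          calc QuotientGroup.kerLift ρ0 r (QuotientGroup.kerLift ρ0 (g : H) w)
              = QuotientGroup.kerLift ρ0 ((g : H) * ((g : H)⁻¹ * r * g)) w := by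
                rw [← MulAut.mul_apply, ← map_mul]; group
            _ = _ := by
                rw [map_mul, MulAut.mul_apply, hw _ hr']; rfl⟩
        have hUσ : (U.map V.subtype).map σ.toMonoidHom = U.map V.subtype := eq_of_le_of_card_ge (by
            rintro _ ⟨_, ⟨w, hw, rfl⟩, rfl⟩
            refine ⟨sv w, fun r hr => ?_, rfl⟩
            have hr' : τ.symm r ∈ R := (SetLike.ext_iff.mp (Core.map_pCore (p := ℓ) τ.symm) _).mp
              (mem_map_of_mem _ hr)
            have h5 := hρe (τ.symm r) w
            rw [hw _ hr', MulEquiv.apply_symm_apply] at h5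
            exact h5.symm)
          (card_map_of_injective σ.injective).ge
        obtain ⟨w, hw, hw1⟩ := hU1
        rcases hVmin _ hUn hUσ (map_subtype_le U) with hU | hU
        · exact hw1 (Subtype.ext (mem_bot.mp (hU ▸ mem_map_of_mem V.subtype hw : (w : G) ∈ ⊥)))
        · apply hQ1
          refine eq_bot_iff.mpr fun r hr => mem_bot.mpr ?_
          apply QuotientGroup.kerLift_injective ρ0
          rw [map_one]
          refine MulEquiv.ext fun v => ?_
          obtain ⟨v', hv', hv''⟩ := (SetLike.ext_iff.mp hU (v : G)).mpr v.2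
          obtain rfl : v' = v := Subtype.ext hv''
          exact hv' r (hQR hr)
      have hab := isMulCommutative_of_faithful τ hτ4 hτf sv hsv4
        (fun v hv => Subtype.ext (hfpf v (congrArg Subtype.val hv))) (QuotientGroup.kerLift ρ0)
        (QuotientGroup.kerLift_injective ρ0) hρe ℓ hexp hco
      have hGk : commutator G ≤ ρ0.ker := by
        rw [_root_.commutator, commutator_le]
        intro a _ b _
        rw [← QuotientGroup.eq_one_iff, ← QuotientGroup.mk'_apply, map_commutatorElement,
          commutatorElement_eq_one_iff_commute]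
        exact hab.is_comm.comm _ _
      let η : MulAut (G ⧸ V) := QuotientGroup.congr V V σ hVσ
      have hη : ∀ g : G, η (g : G ⧸ V) = ((σ g : G) : G ⧸ V) := fun g => rfl
      have hlt : Nat.card (G ⧸ V) ≤ m := by
        have h1 := card_eq_card_quotient_mul_card_subgroup V
        have h2 : 2 ≤ Nat.card V := Nat.le_of_dvd Nat.card_pos hℓV |>.trans' hℓ.two_le
        have h3 : 0 < Nat.card (G ⧸ V) := Nat.card_pos
        nlinarith
      have hq := ih (G ⧸ V) hlt (Group.isSolvable_of_surjective (QuotientGroup.mk'_surjective V))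
        η (MulEquiv.ext fun q => by
          obtain ⟨g, rfl⟩ := QuotientGroup.mk_surjective q
          have h4 := DFunLike.congr_fun hσ g
          simp only [pow_succ, pow_zero, one_mul, MulAut.mul_apply, hη, MulAut.one_apply] at h4 ⊢
          rw [h4])
        (fpf_quotient σ hfpf V hVσ η hη)
      have hle : (commutator G).map (QuotientGroup.mk' V) ≤ commutator (G ⧸ V) := by
        rw [_root_.commutator, map_commutator]
        exact commutator_mono le_top le_top
      let φ : commutator G →* commutator (G ⧸ V) :=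
        ((QuotientGroup.mk' V).comp (commutator G).subtype).codRestrict _ fun a =>
          hle (mem_map_of_mem _ a.2)
      refine Subgroup.isNilpotent_of_ker_le_center φ (fun a ha => mem_center_iff.mpr fun b => ?_)
      have haV : (a : G) ∈ V := (QuotientGroup.eq_one_iff _).mp (congrArg Subtype.val ha)
      have hb := congrArg Subtype.val (DFunLike.congr_fun (hGk b.2) ⟨a, haV⟩)
      simp only [ρ0, MulAut.conjNormal_apply, MulAut.one_apply] at hb
      exact Subtype.ext (mul_inv_eq_iff_eq_mul.mp hb)
    exact key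

end Cfsg.Agent.FixedPointFree
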