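import Mathlib
import Cfsg.Agent.FixedPointFree.OrderFour

/-!
# A group with a fixed-point-free automorphism of order four is solvable

With `τ = σ ^ 2`, every element inverted by `τ` has its `p`-parts in the unique `σ`-invariant
Sylow subgroups; counting shows that such parts for different primes commute, so they generate
a nilpotent normal subgroup with abelian factor group.
-/

set_option autoImplicit false

namespace Cfsg.Agent.FixedPointFree

open Subgroup
open scoped Pointwise

variable {H : Type*} [Group H] [Finite H]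

/-- The restriction of an automorphism to an invariant subgroup. -/
noncomputable def restrictAut (σ : MulAut H) (K : Subgroup H) (hK : ∀ x ∈ K, σ x ∈ K) : MulAut K :=
  MulEquiv.ofBijective
    ((σ.toMonoidHom.comp K.subtype).codRestrict K fun x => hK x x.2)
    (Finite.injective_iff_bijective.mp fun _ _ h =>
      Subtype.ext (σ.injective (congrArg Subtype.val h)))

theorem coe_restrictAut (σ : MulAut H) (K : Subgroup H) (hK : ∀ x ∈ K, σ x ∈ K) (x : K) :
    ((restrictAut σ K hK x : K) : H) = σ x := rfl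

theorem fpf_restrictAut (σ : MulAut H) (hfpf : ∀ h, σ h = h → h = 1) (K : Subgroup H)
    (hK : ∀ x ∈ K, σ x ∈ K) (x : K) (hx : restrictAut σ K hK x = x) : x = 1 :=
  Subtype.ext (hfpf x (congrArg Subtype.val hx))

variable (σ : MulAut H) (hfpf : ∀ h, σ h = h → h = 1)
include hfpf

variable {p : ℕ} [Fact p.Prime]

theorem exists_invariant_sylow : ∃ P : Sylow p H, ∀ x ∈ P, σ x ∈ P := by
  obtain ⟨P⟩ : Nonempty (Sylow p H) := inferInstance
  obtain ⟨g, hg⟩ := MulAction.exists_smul_eq H P (σ • P)
  obtain ⟨y, hy⟩ := Finite.surjective_of_injective (injective_inv_mul_apply σ hfpf) g⁻¹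
  have hmem : ∀ (a : H) (x : H), x ∈ a • P ↔ a⁻¹ * x * a ∈ P := fun a x => by
    show x ∈ ((a • P : Sylow p H) : Subgroup H) ↔ _
    rw [Sylow.smul_def, Sylow.pointwise_smul_def, mem_pointwise_smul_iff_inv_smul_mem]
    simp only [MulAut.smul_def, ← map_inv, MulAut.conj_apply, inv_inv]
    rfl
  refine ⟨y • P, fun x hx => ?_⟩
  rw [hmem] at hx ⊢
  have h1 : σ (y⁻¹ * x * y) ∈ g • P := by
    rw [hg]
    show σ _ ∈ ((σ • P : Sylow p H) : Subgroup H)
    rw [Sylow.pointwise_smul_def, mem_pointwise_smul_iff_inv_smul_mem]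
    show σ⁻¹ (σ (y⁻¹ * x * y)) ∈ (P : Subgroup H)
    rw [MulAut.inv_apply_self]
    exact hx
  rw [hmem] at h1
  have e : g⁻¹ = y⁻¹ * σ y := hy.symm
  have e' : g = (σ y)⁻¹ * y := by rw [← inv_inv g, e, mul_inv_rev, inv_inv]
  rw [e, e', map_mul, map_mul, map_inv] at h1
  simpa [mul_assoc] using h1

theorem invariant_sylow_unique (P R : Sylow p H) (hP : ∀ x ∈ P, σ x ∈ P) (hR : ∀ x ∈ R, σ x ∈ R) :
    R = P := by
  obtain ⟨y, hy⟩ := MulAction.exists_smul_eq H P R
  have hmem : ∀ x : H, x ∈ R ↔ y⁻¹ * x * y ∈ P := fun x => by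
    rw [← hy]
    show x ∈ ((y • P : Sylow p H) : Subgroup H) ↔ _
    rw [Sylow.smul_def, Sylow.pointwise_smul_def, mem_pointwise_smul_iff_inv_smul_mem]
    simp only [MulAut.smul_def, ← map_inv, MulAut.conj_apply, inv_inv]
    rfl
  have hsP : ∀ x ∈ P, ∃ x' ∈ P, σ x' = x := fun x hx => by
    obtain ⟨x', hx'⟩ := (restrictAut σ (P : Subgroup H) hP).surjective ⟨x, hx⟩
    exact ⟨x', x'.2, congrArg Subtype.val hx'⟩
  set N := normalizer ((P : Subgroup H) : Set H)
  have hN : ∀ x ∈ N, σ x ∈ N := by
    intro x hx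
    refine mem_normalizer_fintype fun b hb => ?_
    obtain ⟨b', hb', rfl⟩ := hsP b hb
    simpa using hP _ ((mem_normalizer_iff.mp hx b').mp hb')
  have hyN : y⁻¹ * σ y ∈ N := by
    refine mem_normalizer_fintype fun b hb => ?_
    obtain ⟨b', hb', rfl⟩ := hsP b hb
    have h1 : y * b' * y⁻¹ ∈ R := (hmem _).mpr (by simpa [mul_assoc] using hb')
    simpa [mul_assoc] using (hmem _).mp (hR _ h1)
  obtain ⟨n, hn⟩ := Finite.surjective_of_injective
    (injective_inv_mul_apply (restrictAut σ N hN) (fpf_restrictAut σ hfpf N hN)) ⟨_, hyN⟩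
  have hn' : y = n :=
    (injective_inv_mul_apply σ hfpf (congrArg Subtype.val hn)).symm
  rw [← hy, Sylow.smul_eq_iff_mem_normalizer, hn']
  exact n.2

/-- Every invariant `p`-subgroup lies in the invariant Sylow `p`-subgroup. -/
theorem le_invariant_sylow (P : Sylow p H) (hP : ∀ x ∈ P, σ x ∈ P) :
    ∀ Q : Subgroup H, IsPGroup p Q → (∀ x ∈ Q, σ x ∈ Q) → Q ≤ P := by
  suffices h : ∀ n, ∀ Q : Subgroup H, Nat.card H ≤ Nat.card Q + n → IsPGroup p Q →
      (∀ x ∈ Q, σ x ∈ Q) → Q ≤ P from fun Q => h (Nat.card H) Q (by omega)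
  intro n
  induction n using Nat.strong_induction_on with
  | _ n ih =>
    intro Q hn hQ hQσ
    set N := normalizer (Q : Set H)
    have hN : ∀ x ∈ N, σ x ∈ N := by
      intro x hx
      refine mem_normalizer_fintype fun b hb => ?_
      obtain ⟨b', hb'⟩ := (restrictAut σ Q hQσ).surjective ⟨b, hb⟩
      rw [← show σ b' = b from congrArg Subtype.val hb']
      simpa using hQσ _ ((mem_normalizer_iff.mp hx b').mp b'.2)
    obtain ⟨R, hR⟩ := exists_invariant_sylow (restrictAut σ N hN) (fpf_restrictAut σ hfpf N hN)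
      (p := p)
    set R' : Subgroup H := (R : Subgroup N).map N.subtype
    have hR'p : IsPGroup p R' := R.isPGroup'.map _
    have hR'σ : ∀ x ∈ R', σ x ∈ R' := by
      rintro _ ⟨x, hx, rfl⟩
      exact ⟨_, hR x hx, rfl⟩
    have : (Q.comap N.subtype).Normal := normal_in_normalizer
    have hQR : Q.subgroupOf N ≤ R := hQ.comap_subtype.le_sylow_of_normal R
    have hle : Q ≤ R' := fun x hx => ⟨⟨x, le_normalizer hx⟩, hQR hx, rfl⟩
    by_cases he : R' = Q
    · -- `Q` is then a Sylow subgroup of `H`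
      have h1 : ¬ p ∣ (Q.subgroupOf N).index := by
        have e : Q.subgroupOf N = (R : Subgroup N) := by
          refine le_antisymm hQR fun x hx => ?_
          show (x : H) ∈ Q
          rw [← he]
          exact ⟨x, hx, rfl⟩
        rw [e]
        exact R.not_dvd_index
      have h2 := IsPGroup.iff_card.mp hQ
      obtain ⟨k, hk⟩ := h2
      have h3 : ¬ p ∣ Q.index := by
        intro hd
        obtain ⟨P0, hP0⟩ := hQ.exists_le_sylow
        apply h1
        have h4 := Sylow.prime_dvd_card_quotient_normalizer (G := H) (n := k) (p := p) ?_ hk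
        · exact h4
        · rw [← Q.card_mul_index, hk, pow_succ]
          exact mul_dvd_mul_left _ hd
      rw [← invariant_sylow_unique σ hfpf P (hQ.toSylow h3) hP hQσ]
      rfl
    · refine hle.trans (ih (Nat.card H - Nat.card R') ?_ R' ?_ hR'p hR'σ)
      · have h1 : Nat.card Q < Nat.card R' := Set.Finite.card_lt_card (Set.toFinite _)
          (SetLike.coe_ssubset_coe.mpr (lt_of_le_of_ne hle (Ne.symm he)))
        have h2 := R'.card_le_card_group
        omega
      · omega


omit [Fact p.Prime] hfpf in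
/-- For an involutive automorphism of a finite group of odd order, `|K| = |fixed| * |inverted|`. -/
theorem card_fixed_mul_inverted (hodd : Odd (Nat.card H)) (τ : MulAut H) (hτ : ∀ h, τ (τ h) = h) :
    Nat.card {c : H // τ c = c} * Nat.card {y : H // τ y = y⁻¹} = Nat.card H := by
  obtain ⟨m, hm⟩ := hodd
  have hz : ∀ y : H, y ^ (m + 1) * y ^ (m + 1) = y := fun y => by
    rw [← pow_add, show m + 1 + (m + 1) = Nat.card H + 1 by omega, pow_succ, pow_card_eq_one',
      one_mul]
  have hτz : ∀ y : H, τ y = y⁻¹ → τ (y ^ (m + 1)) = (y ^ (m + 1))⁻¹ := fun y hy => by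
    rw [map_pow, hy, inv_pow]
  rw [← Nat.card_prod]
  refine Nat.card_congr
    { toFun := fun a => (a.1 : H) * ((a.2 : H) ^ (m + 1))⁻¹
      invFun := fun x => (⟨x * (x⁻¹ * τ x) ^ (m + 1), ?_⟩, ⟨x⁻¹ * τ x, ?_⟩)
      left_inv := ?_
      right_inv := fun x => by simp [mul_assoc] }
  · have hy : τ (x⁻¹ * τ x) = (x⁻¹ * τ x)⁻¹ := by rw [map_mul, map_inv, hτ, mul_inv_rev, inv_inv]
    rw [map_mul, hτz _ hy, mul_inv_eq_iff_eq_mul, mul_assoc, hz, mul_inv_cancel_left]
  · rw [map_mul, map_inv, hτ, mul_inv_rev, inv_inv]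
  · rintro ⟨⟨c, hc⟩, ⟨y, hy⟩⟩
    have h1 : (c * (y ^ (m + 1))⁻¹)⁻¹ * τ (c * (y ^ (m + 1))⁻¹) = y := by
      rw [map_mul, map_inv, hc, hτz y hy, inv_inv, mul_inv_rev, inv_inv, mul_assoc,
        inv_mul_cancel_left, hz]
    refine Prod.ext (Subtype.ext ?_) (Subtype.ext h1)
    show c * (y ^ (m + 1))⁻¹ * _ = c
    rw [h1, inv_mul_cancel_right]

omit [Fact p.Prime] [Finite H] hfpf in
theorem pow_sum_eq_of_forall {ι : Type*} (s : Finset ι) (e : ι → ℕ) {x y : H}
    (h : ∀ i ∈ s, x ^ e i = y ^ e i) : x ^ (∑ i ∈ s, e i) = y ^ (∑ i ∈ s, e i) := by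
  classical
  induction s using Finset.induction_on with
  | empty => simp
  | insert a s ha ih =>
    rw [Finset.sum_insert ha, pow_add, pow_add, h a (Finset.mem_insert_self _ _),
      ih fun i hi => h i (Finset.mem_insert_of_mem hi)]

omit [Group H] [Finite H] [Fact p.Prime] hfpf in
theorem dvd_of_forall_primeFactors {n m : ℕ} (hn : n ≠ 0)
    (h : ∀ r ∈ n.primeFactors, r ^ n.factorization r ∣ m) : n ∣ m := by
  refine (Nat.dvd_iff_prime_pow_dvd_dvd m n).mpr fun r k hr hk => ?_
  by_cases hk0 : k = 0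
  · simp [hk0]
  have hrn : r ∣ n := (dvd_pow_self r hk0).trans hk
  exact (pow_dvd_pow r ((hr.pow_dvd_iff_le_factorization hn).mp hk)).trans
    (h r (Nat.mem_primeFactors.mpr ⟨hr, hrn, hn⟩))

omit [Group H] [Finite H] [Fact p.Prime] hfpf in
theorem modEq_of_forall_primeFactors {n a b : ℕ} (hn : n ≠ 0)
    (h : ∀ r ∈ n.primeFactors, a ≡ b [MOD r ^ n.factorization r]) : a ≡ b [MOD n] := by
  refine Nat.modEq_iff_dvd.mpr (Int.natCast_dvd.mpr (dvd_of_forall_primeFactors hn fun r hr => ?_))
  exact Int.natCast_dvd.mp (Nat.modEq_iff_dvd.mp (h r hr))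

omit [Fact p.Prime] in
/-- **Gorenstein–Herstein**: a group with a fixed-point-free automorphism `σ` with `σ ^ 4 = 1`
is solvable. -/
theorem isSolvable_of_fpf_order_four (hσ : σ ^ 4 = 1) : Group.IsSolvable H := by
  classical
  have hodd := odd_card σ hσ hfpf
  have h4 : ∀ h : H, σ (σ (σ (σ h))) = h := fun h => by
    have h1 := DFunLike.congr_fun hσ h
    simpa [pow_succ, MulAut.mul_apply] using h1
  set τ : MulAut H := σ * σ with hτdef
  have hτa : ∀ h, τ h = σ (σ h) := fun _ => rfl
  have hτ : ∀ h, τ (τ h) = h := fun h => by simp only [hτa, h4]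
  -- the fixed subgroup of `τ`
  let C : Subgroup H :=
    { carrier := {c | τ c = c}
      one_mem' := map_one τ
      mul_mem' := fun {a b} (ha : τ a = a) (hb : τ b = b) => show τ (a * b) = _ by rw [map_mul, ha, hb]
      inv_mem' := fun {a} (ha : τ a = a) => show τ a⁻¹ = _ by rw [map_inv, ha] }
  have hC : ∀ c ∈ C, σ c ∈ C := fun c (hc : τ c = c) => by
    show σ (σ (σ c)) = σ c
    rw [← hτa c, hc]
  have hCab := isMulCommutative_of_involutive (restrictAut σ C hC) (fpf_restrictAut σ hfpf C hC)
    fun c => Subtype.ext c.2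
  -- commuting of `x` and `σ x` for inverted `x`
  have hIcomm : ∀ x, τ x = x⁻¹ → Commute x (σ x) := by
    intro x hx
    obtain ⟨z, hz⟩ := Finite.surjective_of_injective (injective_inv_mul_apply σ hfpf) x
    have h1 : x * σ x * σ (σ x) * σ (σ (σ x)) = 1 := by
      rw [← hz]
      simp only [map_mul, map_inv, h4]
      group
    rw [← hτa, hx, show σ x⁻¹ = (σ x)⁻¹ from map_inv σ x] at h1
    have h2 := mul_inv_eq_one.mp h1
    exact (mul_inv_eq_iff_eq_mul.mp h2).trans rfl
  set S := (Nat.card H).primeFactors with hS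
  have hprime : ∀ q : S, Fact (q : ℕ).Prime := fun q => ⟨(Nat.mem_primeFactors.mp q.2).1⟩
  choose P hP using fun q : S =>
    (haveI := hprime q; exists_invariant_sylow (p := (q : ℕ)) σ hfpf)
  -- exponents giving the primary parts
  set n := Nat.card H with hn
  have hn0 : n ≠ 0 := Nat.card_pos.ne'
  have hex : ∀ q : S, ∃ e : ℕ,
      ∀ r : S, e ≡ (if r = q then 1 else 0) [MOD (r : ℕ) ^ n.factorization r] := by
    intro q
    obtain ⟨e, he⟩ := Nat.chineseRemainderOfFinset (fun r : S => if r = q then 1 else 0)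
      (fun r : S => (r : ℕ) ^ n.factorization r) Finset.univ
      (fun r _ => pow_ne_zero _ (hprime r).out.ne_zero) (fun r _ r' _ hne =>
        Nat.Coprime.pow _ _ ((Nat.coprime_primes (hprime r).out (hprime r').out).mpr
          fun h => hne (Subtype.ext h)))
    exact ⟨e, fun r => he r (Finset.mem_univ r)⟩
  choose e he using hex
  have he1 : ∀ (q : S) (x : H), (x ^ e q) ^ (q : ℕ) ^ n.factorization q = 1 := by
    intro q x
    rw [← pow_mul, ← orderOf_dvd_iff_pow_eq_one]
    refine (orderOf_dvd_natCard x).trans (dvd_of_forall_primeFactors hn0 fun r hr => ?_)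
    by_cases hrq : (⟨r, hr⟩ : S) = q
    · exact dvd_mul_of_dvd_right (by rw [← hrq]) _
    · have h1 := he q ⟨r, hr⟩
      rw [if_neg hrq] at h1
      exact dvd_mul_of_dvd_left ((Nat.modEq_zero_iff_dvd).mp h1) _
  have hsum : ∀ x : H, x ^ (∑ q : S, e q) = x := by
    intro x
    have h1 : (∑ q : S, e q) ≡ 1 [MOD n] := by
      refine modEq_of_forall_primeFactors hn0 fun r hr => ?_
      rw [← ZMod.natCast_eq_natCast_iff, Nat.cast_sum, Finset.sum_eq_single (⟨r, hr⟩ : S)]
      · have h2 := he ⟨r, hr⟩ ⟨r, hr⟩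
        rw [if_pos rfl] at h2
        rw [ZMod.natCast_eq_natCast_iff]
        exact h2
      · intro q _ hq
        have h2 := he q ⟨r, hr⟩
        rw [if_neg (Ne.symm hq)] at h2
        have h3 := (ZMod.natCast_eq_natCast_iff _ _ _).mpr h2
        simpa using h3
      · simp
    have h2 := pow_eq_pow_iff_modEq.mpr (h1.of_dvd (orderOf_dvd_natCard x))
    rwa [pow_one] at h2
  -- the inverted primary components
  let I : Set H := {x | τ x = x⁻¹}
  let Ip : S → Type _ := fun q => {x : (P q : Subgroup H) // τ (x : H) = (x : H)⁻¹}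
  have hpart : ∀ x, τ x = x⁻¹ → ∀ q : S, x ^ e q ∈ P q := by
    intro x hx q
    haveI := hprime q
    have hk := he1 q x
    set k := n.factorization (q : ℕ)
    have hy : τ (x ^ e q) = (x ^ e q)⁻¹ := by rw [map_pow, hx, inv_pow]
    set y := x ^ e q
    have hcomm := hIcomm y hy
    have hQσ : ∀ z ∈ closure {y, σ y}, σ z ∈ closure {y, σ y} := by
      intro z hz
      induction hz using closure_induction with
      | mem w hw =>
        rcases hw with rfl | rfl
        · exact subset_closure (Or.inr rfl)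
        · rw [← hτa, hy]
          exact inv_mem (subset_closure (Or.inl rfl))
      | one => rw [map_one]; exact one_mem _
      | mul a b _ _ ha hb => rw [map_mul]; exact mul_mem ha hb
      | inv a _ ha => rw [map_inv]; exact inv_mem ha
    have hQp : IsPGroup (q : ℕ) (closure ({y, σ y} : Set H)) := by
      have h1 : ∀ z ∈ closure ({y, σ y} : Set H), z ^ (q : ℕ) ^ k = 1 ∧ ∀ w ∈ closure ({y, σ y} : Set H), Commute z w := by
        have hab := isMulCommutative_closure (k := ({y, σ y} : Set H)) (by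
          rintro a (rfl | rfl) b (rfl | rfl)
          · rfl
          · exact hcomm
          · exact hcomm.symm
          · rfl)
        intro z hz
        refine ⟨?_, fun w hw => congrArg Subtype.val (hab.is_comm.comm ⟨z, hz⟩ ⟨w, hw⟩)⟩
        induction hz using closure_induction with
        | mem w hw =>
          rcases hw with rfl | rfl
          · exact hk
          · rw [← map_pow, hk, map_one]
        | one => exact one_pow _
        | mul a b ha hb iha ihb =>
          rw [Commute.mul_pow (congrArg Subtype.val (hab.is_comm.comm ⟨a, ha⟩ ⟨b, hb⟩) : Commute a b),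
            iha, ihb, one_mul]
        | inv a _ iha => rw [inv_pow, iha, inv_one]
      exact fun z => ⟨k, Subtype.ext (h1 z z.2).1⟩
    exact le_invariant_sylow σ hfpf (P q) (hP q) _ hQp hQσ (subset_closure (Or.inl rfl))
  let Φ : {x : H // τ x = x⁻¹} → ∀ q : S, Ip q := fun x q =>
    ⟨⟨(x : H) ^ e q, hpart x x.2 q⟩, by
      show τ ((x : H) ^ e q) = ((x : H) ^ e q)⁻¹
      rw [map_pow, x.2, inv_pow]⟩
  have hΦ : Function.Injective Φ := fun x y hxy => Subtype.ext (by
    rw [← hsum x, ← hsum y]
    exact pow_sum_eq_of_forall _ _ fun q _ =>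
      congrArg (fun f : ∀ q : S, Ip q => ((f q).1 : H)) hxy)
  have hcard : Nat.card (∀ q : S, Ip q) ≤ Nat.card {x : H // τ x = x⁻¹} := by
    have hF := card_fixed_mul_inverted hodd τ hτ
    have hFC : Nat.card {c : H // τ c = c} = Nat.card C := rfl
    rw [hFC] at hF
    have hPτ : ∀ (q : S), ∀ x ∈ (P q : Subgroup H), τ x ∈ (P q : Subgroup H) :=
      fun q x hx => hP q _ (hP q x hx)
    -- `|P q|` splits into fixed and inverted elements
    have hsplit : ∀ q : S, Nat.card {x : (P q : Subgroup H) // τ (x : H) = x} * Nat.card (Ip q) =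
        (q : ℕ) ^ n.factorization q := by
      intro q
      haveI := hprime q
      have h1 := card_fixed_mul_inverted (Odd.of_dvd_nat hodd
        (P q : Subgroup H).card_subgroup_dvd_card) (restrictAut τ _ (hPτ q))
        (fun x => Subtype.ext (hτ x))
      rw [← (P q).card_eq_multiplicity]
      refine Eq.trans (congrArg₂ (· * ·) ?_ ?_) h1
      · exact Nat.card_congr (Equiv.subtypeEquivRight fun x =>
          ⟨fun h => Subtype.ext h, fun h => congrArg Subtype.val h⟩)
      · exact Nat.card_congr (Equiv.subtypeEquivRight fun x =>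
          ⟨fun h => Subtype.ext h, fun h => congrArg Subtype.val h⟩)
    -- a Sylow subgroup of `C` is fixed in `P q`
    have hfix : ∀ q : S, (q : ℕ) ^ (Nat.card C).factorization q ≤
        Nat.card {x : (P q : Subgroup H) // τ (x : H) = x} := by
      intro q
      haveI := hprime q
      obtain ⟨R, hR⟩ := exists_invariant_sylow (p := (q : ℕ)) (restrictAut σ C hC)
        (fpf_restrictAut σ hfpf C hC)
      have hle : (R : Subgroup C).map C.subtype ≤ P q :=
        le_invariant_sylow σ hfpf (P q) (hP q) _ (R.isPGroup'.map _) (by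
          rintro _ ⟨x, hx, rfl⟩
          exact ⟨_, hR x hx, rfl⟩)
      rw [← R.card_eq_multiplicity]
      exact Nat.card_le_card_of_injective
        (fun x : (R : Subgroup C) => ⟨⟨((x : C) : H), hle ⟨x, x.2, rfl⟩⟩, (x : C).2⟩)
        fun a b hab => Subtype.ext (Subtype.ext (congrArg
          (fun z : {x : (P q : Subgroup H) // τ (x : H) = x} => ((z : (P q : Subgroup H)) : H)) hab))
    have h2 : ∏ q : S, (q : ℕ) ^ n.factorization q = n := by
      rw [Finset.prod_coe_sort S (fun q => q ^ n.factorization q)]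
      exact Nat.factorization_prod_pow_eq_self hn0
    have h3 : Nat.card C ≤ ∏ q : S, (q : ℕ) ^ (Nat.card C).factorization q := by
      refine Nat.le_of_dvd (Finset.prod_pos fun q _ => pow_pos (hprime q).out.pos _) ?_
      refine dvd_of_forall_primeFactors Nat.card_pos.ne' fun r hr => ?_
      exact Finset.dvd_prod_of_mem (fun q : S => (q : ℕ) ^ (Nat.card C).factorization q)
        (Finset.mem_univ (⟨r, Nat.primeFactors_mono C.card_subgroup_dvd_card hn0 hr⟩ : S))
    have h4 : ∏ q : S, (Nat.card {x : (P q : Subgroup H) // τ (x : H) = x} * Nat.card (Ip q)) =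
        n := (Finset.prod_congr rfl fun q _ => hsplit q).trans h2
    rw [Finset.prod_mul_distrib, ← Nat.card_pi (β := Ip)] at h4
    have h5 := h3.trans (Finset.prod_le_prod' fun q _ => hfix q)
    refine Nat.le_of_mul_le_mul_left ?_ (Nat.card_pos (α := C))
    rw [hF]
    exact (Nat.mul_le_mul_right _ h5).trans h4.le
  have hΦs : Function.Surjective Φ :=
    (hΦ.bijective_of_nat_card_le hcard).2
  have hPcomm : ∀ q r : S, q ≠ r → ∀ a ∈ P q, ∀ b ∈ P r, τ a = a⁻¹ → τ b = b⁻¹ → Commute a b := by
    intro q r hqr a ha b hb ha' hb'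
    obtain ⟨x, hx⟩ := hΦs fun s => if h : s = q then h ▸ ⟨⟨a, ha⟩, ha'⟩
      else if h' : s = r then h' ▸ ⟨⟨b, hb⟩, hb'⟩ else ⟨1, by simp⟩
    have hxa : (x : H) ^ e q = a := by
      have := congrArg (fun f : ∀ q : S, Ip q => ((f q).1 : H)) hx
      simpa [Φ] using this
    have hxb : (x : H) ^ e r = b := by
      have := congrArg (fun f : ∀ q : S, Ip q => ((f r).1 : H)) hx
      simpa [Φ, Ne.symm hqr] using this
    rw [← hxa, ← hxb]
    exact Commute.pow_pow_self _ _ _
  -- the nilpotent normal subgroup generated by the inverted elements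
  set M : Subgroup H := closure I with hM
  let R : S → Subgroup H := fun q => closure {x | x ∈ P q ∧ τ x = x⁻¹}
  have hRc : Pairwise fun q r : S => ∀ a b : H, a ∈ R q → b ∈ R r → Commute a b := by
    intro q r hqr a b ha hb
    have h1 : R q ≤ centralizer (R r : Set H) := by
      rw [centralizer_closure, closure_le]
      intro a ha
      rw [SetLike.mem_coe, mem_centralizer_iff]
      exact fun b hb => (hPcomm q r hqr a ha.1 b hb.1 ha.2 hb.2).eq.symm
    exact ((mem_centralizer_iff.mp (h1 ha)) b hb).symm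
  have hMR : M ≤ ⨆ q : S, R q := by
    rw [hM, closure_le]
    intro x (hx : τ x = x⁻¹)
    rw [SetLike.mem_coe, ← hsum x]
    have h1 : ∀ s : Finset S, x ^ (∑ q ∈ s, e q) ∈ ⨆ q : S, R q := by
      intro s
      induction s using Finset.induction_on with
      | empty => simp
      | insert a s ha ih =>
        rw [Finset.sum_insert ha, pow_add]
        exact mul_mem (le_iSup R a (subset_closure
          ⟨hpart x hx a, show τ (x ^ e a) = (x ^ e a)⁻¹ by rw [map_pow, hx, inv_pow]⟩)) ih
    exact h1 Finset.univ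
  have hnil : ∀ q : S, Group.IsNilpotent (R q) := fun q => by
    haveI := hprime q
    exact ((P q).isPGroup'.to_le (closure_le _ |>.mpr fun x hx => hx.1)).isNilpotent
  have hMs : Group.IsSolvable M := by
    let F := Subgroup.noncommPiCoprod (H := R) hRc
    haveI : Group.IsNilpotent F.range :=
      Group.nilpotent_of_surjective F.rangeRestrict F.rangeRestrict_surjective
    have hle : M ≤ F.range := by rwa [Subgroup.noncommPiCoprod_range]
    exact Group.isSolvable_of_isSolvable_injective (f := inclusion hle) (inclusion_injective hle)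
  have hfac : ∀ h : H, ∃ c ∈ C, ∃ w ∈ M, c * w = h := by
    intro h
    obtain ⟨m, hm⟩ := hodd
    set z := (h⁻¹ * τ h) ^ (m + 1) with hz
    have hy : τ (h⁻¹ * τ h) = (h⁻¹ * τ h)⁻¹ := by rw [map_mul, map_inv, hτ, mul_inv_rev, inv_inv]
    have hzz : z * z = h⁻¹ * τ h := by
      rw [hz, ← pow_add, show m + 1 + (m + 1) = Nat.card H + 1 by omega, pow_succ, pow_card_eq_one',
        one_mul]
    have hzi : τ z = z⁻¹ := by rw [hz, map_pow, hy, inv_pow]
    refine ⟨h * z, ?_, z⁻¹, inv_mem (subset_closure hzi), mul_inv_cancel_right h z⟩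
    show τ (h * z) = h * z
    rw [map_mul, hzi, mul_inv_eq_iff_eq_mul, mul_assoc, hzz, mul_inv_cancel_left]
  haveI : M.Normal := by
    refine ⟨fun m hm h => ?_⟩
    have key : ∀ c ∈ C, ∀ m ∈ M, c * m * c⁻¹ ∈ M := by
      intro c (hc : τ c = c) m hm
      induction hm using closure_induction with
      | mem w hw =>
        refine subset_closure (show τ _ = _ from ?_)
        rw [map_mul, map_mul, map_inv, hc, hw]
        group
      | one => simp
      | mul a b _ _ ha hb =>
        rw [show c * (a * b) * c⁻¹ = c * a * c⁻¹ * (c * b * c⁻¹) by group]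
        exact mul_mem ha hb
      | inv a _ ha =>
        rw [show c * a⁻¹ * c⁻¹ = (c * a * c⁻¹)⁻¹ by group]
        exact inv_mem ha
    obtain ⟨c, hc, w, hw, rfl⟩ : ∃ c ∈ C, ∃ w ∈ M, c * w = h := hfac h
    rw [show c * w * m * (c * w)⁻¹ = c * (w * m * w⁻¹) * c⁻¹ by group]
    exact key c hc _ (mul_mem (mul_mem hw hm) (inv_mem hw))
  haveI : Group.IsSolvable C := by
    haveI := hCab
    exact Group.isSolvable_of_comm fun a b => hCab.is_comm.comm a b
  haveI : Group.IsSolvable (H ⧸ M) := by
    refine Group.isSolvable_of_surjective (f := (QuotientGroup.mk' M).comp C.subtype) fun x => ?_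
    obtain ⟨h, rfl⟩ := QuotientGroup.mk_surjective x
    obtain ⟨c, hc, w, hw, rfl⟩ := hfac h
    exact ⟨⟨c, hc⟩, (QuotientGroup.eq).mpr (by simpa using hw)⟩
  exact Group.isSolvable_of_ker_le_range M.subtype (QuotientGroup.mk' M)
    (by rw [QuotientGroup.ker_mk', range_subtype])

omit [Fact p.Prime] [Finite H] hfpf in
/-- Element form of `isSolvable_of_fpf_order_four`. -/
theorem isSolvable_of_element_fpf_order_four {Γ : Type*} [Group Γ] [Finite Γ] {L : Subgroup Γ}
    [L.Normal] {c : Γ} (hc : c ^ 4 = 1) (hfix : L ⊓ centralizer {c} = ⊥) :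
    Group.IsSolvable L := by
  refine isSolvable_of_fpf_order_four (MulAut.conjNormal c) (fun h hh => ?_) ?_
  · have h1 : c * h * c⁻¹ = h := congrArg Subtype.val hh
    refine Subtype.ext (mem_bot.mp (hfix ▸ (⟨h.2, mem_centralizer_singleton_iff.mpr
      (mul_inv_eq_iff_eq_mul.mp h1).symm⟩ : (h : Γ) ∈ L ⊓ centralizer {c})))
  · rw [← map_pow, hc, map_one]

end Cfsg.Agent.FixedPointFree
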