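import Cfsg.Agent.FixedPointFree.Prime
import Cfsg.Agent.Core.PCore

/-!
Ward's theorem: a solvable group with a fixed-point-free group of automorphisms of type `(p, p)`
has Fitting height at most two.
-/

set_option autoImplicit false

open Subgroup
open scoped Pointwise commutatorElement

namespace Cfsg.Agent.FixedPointFree

universe u

variable {Γ : Type u} [Group Γ] [Finite Γ]

/-- An elementary abelian group of order `p ^ 2` acting without fixed points on `G`. -/
structure WardHyp (p : ℕ) (A G : Subgroup Γ) : Prop where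
  prime : p.Prime
  pow : ∀ a ∈ A, a ^ p = 1
  comm : IsMulCommutative A
  card_eq : Nat.card A = p ^ 2
  norm : A ≤ normalizer (G : Set Γ)
  fixed : G ⊓ centralizer (A : Set Γ) = ⊥
  solv : Group.IsSolvable G

theorem mem_normalizer_of_forall {g : Γ} {H : Subgroup Γ} (h : ∀ x ∈ H, g * x * g⁻¹ ∈ H) :
    g ∈ normalizer (H : Set Γ) := by
  apply Coprime.mem_normalizer_of_conj_smul_eq
  refine eq_of_le_of_card_ge ?_ (Coprime.card_conj_smul g H).ge
  intro y hy
  have h1 := h _ (Coprime.mem_conj_smul.mp hy)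
  simpa [mul_assoc] using h1

/-- The elements of a subgroup `W`'s normaliser whose commutators with `W` lie in `S`. -/
theorem commutator_mem_of_closure {W S : Subgroup Γ} {s : Set Γ}
    (hN : ∀ z ∈ s, z ∈ normalizer (W : Set Γ)) (hs : ∀ z ∈ s, ∀ w ∈ W, ⁅w, z⁆ ∈ S)
    {z : Γ} (hz : z ∈ closure s) {w : Γ} (hw : w ∈ W) : ⁅w, z⁆ ∈ S := by
  suffices h : z ∈ normalizer (W : Set Γ) ∧ ∀ w ∈ W, ⁅w, z⁆ ∈ S from h.2 w hw
  clear hw w
  induction hz using closure_induction with
  | mem z hz => exact ⟨hN z hz, hs z hz⟩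
  | one => exact ⟨one_mem _, fun w _ => by simp⟩
  | mul a b _ _ ha hb =>
    refine ⟨mul_mem ha.1 hb.1, fun w hw => ?_⟩
    have ht : ⁅w, b⁆ ∈ W := by
      have := W.mul_mem hw ((mem_normalizer_iff.mp hb.1 w⁻¹).mp (W.inv_mem hw))
      simpa [commutatorElement_def, mul_assoc] using this
    have e : ⁅w, a * b⁆ = ⁅w, a⁆ * (⁅⁅w, b⁆, a⁆⁻¹ * ⁅w, b⁆) := by
      simp only [commutatorElement_def]; group
    rw [e]
    exact S.mul_mem (ha.2 w hw) (S.mul_mem (S.inv_mem (ha.2 _ ht)) (hb.2 w hw))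
  | inv a _ ha =>
    refine ⟨inv_mem ha.1, fun w hw => ?_⟩
    have e : ⁅w, a⁻¹⁆ = ⁅a⁻¹ * w * a, a⁆⁻¹ := by
      simp only [commutatorElement_def]; group
    rw [e]
    exact S.inv_mem (ha.2 _ ((mem_normalizer_iff''.mp ha.1 w).mp hw))

namespace WardHyp

variable {p : ℕ} {A G : Subgroup Γ}

theorem commute (h : WardHyp p A G) {a b : Γ} (ha : a ∈ A) (hb : b ∈ A) : Commute a b :=
  have := h.comm
  setLike_mul_comm ha hb

theorem isPGroup (h : WardHyp p A G) : IsPGroup p A :=
  fun a => ⟨1, Subtype.ext (by simpa using h.pow a a.2)⟩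

theorem orderOf_eq (h : WardHyp p A G) {a : Γ} (ha : a ∈ A) (ha1 : a ≠ 1) : orderOf a = p :=
  have := Fact.mk h.prime
  orderOf_eq_prime (h.pow a ha) ha1

theorem card_zpowers (h : WardHyp p A G) {a : Γ} (ha : a ∈ A) (ha1 : a ≠ 1) :
    Nat.card (zpowers a) = p := by
  rw [Nat.card_zpowers, h.orderOf_eq ha ha1]

theorem zpowers_eq (h : WardHyp p A G) {a c : Γ} (hc : c ∈ A) (ha1 : a ≠ 1) (hc1 : c ≠ 1)
    (hac : a ∈ zpowers c) : zpowers a = zpowers c := by
  have hle : zpowers a ≤ zpowers c := zpowers_le.mpr hac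
  refine eq_of_le_of_card_ge hle ?_
  have haA : a ∈ A := zpowers_le.mpr hc hac
  rw [h.card_zpowers hc hc1, h.card_zpowers haA ha1]

theorem exists_not_mem (h : WardHyp p A G) (c : Γ) : ∃ a ∈ A, a ∉ zpowers c := by
  by_contra! hcon
  have h1 := card_dvd_of_le (show A ≤ zpowers c from hcon)
  have h2 := Subgroup.card_le_of_le (show A ≤ zpowers c from hcon)
  rw [h.card_eq] at h2
  by_cases hc : c ∈ A
  · rw [Nat.card_zpowers] at h2
    have h3 := Nat.le_of_dvd h.prime.pos (orderOf_dvd_of_pow_eq_one (h.pow c hc))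
    have := Nat.lt_of_lt_of_le (show p < p ^ 2 by nlinarith [h.prime.two_le]) (h2.trans h3)
    omega
  · exfalso
    refine hc ?_
    obtain ⟨a, ha, ha1⟩ := A.bot_or_exists_ne_one.resolve_left fun hA => by
      have := h.card_eq
      rw [hA, card_bot] at this
      nlinarith [h.prime.two_le]
    -- all elements of `A` are powers of `c`, and `A` is not cyclic
    have hcyc : IsCyclic A := isCyclic_of_le (show A ≤ zpowers c from hcon)
    obtain ⟨g, hg⟩ := hcyc.exists_generator
    have h4 : zpowers g = ⊤ := eq_top_iff.mpr fun x _ => hg x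
    have h5 : Nat.card A = orderOf g := by rw [← Nat.card_zpowers, h4, Subgroup.card_top]
    rw [h.card_eq, orderOf_coe g |>.symm] at h5
    have := Nat.le_of_dvd h.prime.pos (orderOf_dvd_of_pow_eq_one (h.pow g g.2))
    nlinarith [h.prime.two_le]

theorem sup_eq (h : WardHyp p A G) {c a : Γ} (hc : c ∈ A) (hc1 : c ≠ 1) (ha : a ∈ A)
    (hac : a ∉ zpowers c) : zpowers c ⊔ zpowers a = A := by
  have hle : zpowers c ⊔ zpowers a ≤ A := sup_le (zpowers_le.mpr hc) (zpowers_le.mpr ha)
  refine eq_of_le_of_card_ge hle ?_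
  have hdvd := card_dvd_of_le hle
  rw [h.card_eq] at hdvd ⊢
  obtain ⟨i, hi, hie⟩ := (Nat.dvd_prime_pow h.prime).mp hdvd
  rw [hie]
  refine Nat.pow_le_pow_right h.prime.pos ?_
  have hlt : zpowers c < zpowers c ⊔ zpowers a :=
    lt_of_le_of_ne le_sup_left fun e => hac (zpowers_le.mp (e ▸ le_sup_right))
  have h6 := Core.card_lt_of_lt hlt
  rw [h.card_zpowers hc hc1, hie] at h6
  by_contra h7
  have : i ≤ 1 := by omega
  exact absurd (h6.trans_le (Nat.pow_le_pow_right h.prime.pos this)) (by simp)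

theorem ne_one (h : WardHyp p A G) {c a : Γ} (hac : a ∉ zpowers c) : a ≠ 1 := by
  rintro rfl
  exact hac (one_mem _)

theorem not_mem_symm (h : WardHyp p A G) {c a : Γ} (hc : c ∈ A) (hc1 : c ≠ 1) (ha : a ∈ A)
    (hac : a ∉ zpowers c) : c ∉ zpowers a := fun hca =>
  hac ((h.zpowers_eq ha hc1 (h.ne_one hac) hca).symm ▸ mem_zpowers a)

theorem eq_one_of_commute (h : WardHyp p A G) {c a : Γ} (hc : c ∈ A) (hc1 : c ≠ 1) (ha : a ∈ A)
    (hac : a ∉ zpowers c) {x : Γ} (hx : x ∈ G) (h1 : Commute c x) (h2 : Commute a x) : x = 1 := by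
  rw [← mem_bot, ← h.fixed]
  refine ⟨hx, fun y hy => ?_⟩
  rw [SetLike.mem_coe, ← h.sup_eq hc hc1 ha hac] at hy
  have : zpowers c ⊔ zpowers a ≤ centralizer {x} := sup_le
    (zpowers_le.mpr (mem_centralizer_singleton_iff.mpr h1.eq))
    (zpowers_le.mpr (mem_centralizer_singleton_iff.mpr h2.eq))
  exact mem_centralizer_singleton_iff.mp (this hy)

theorem fpf_inf (h : WardHyp p A G) {c a : Γ} (hc : c ∈ A) (hc1 : c ≠ 1) (ha : a ∈ A)
    (hac : a ∉ zpowers c) {X : Subgroup Γ} (hX : X ≤ G) :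
    (X ⊓ centralizer {c}) ⊓ centralizer {a} = ⊥ := by
  rw [eq_bot_iff]
  rintro x ⟨⟨hxX, hxc⟩, hxa⟩
  exact mem_bot.mpr (h.eq_one_of_commute hc hc1 ha hac (hX hxX)
    (mem_centralizer_singleton_iff.mp hxc).symm (mem_centralizer_singleton_iff.mp hxa).symm)

theorem norm_fixed (h : WardHyp p A G) {c : Γ} (hc : c ∈ A) {X : Subgroup Γ}
    (hX : A ≤ normalizer (X : Set Γ)) :
    A ≤ normalizer ((X ⊓ centralizer {c} : Subgroup Γ) : Set Γ) := by
  refine Coprime.le_normalizer_inf hX ?_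
  rw [← centralizer_zpowers]
  refine Coprime.le_normalizer_centralizer fun a ha => mem_normalizer_of_forall fun x hx => ?_
  rw [(h.commute ha (zpowers_le.mpr hc hx)).eq, mul_inv_cancel_right]
  exact hx

theorem coprime (h : WardHyp p A G) {X : Subgroup Γ} (hX : X ≤ G) :
    (Nat.card A).Coprime (Nat.card X) :=
  (coprime_of_fixed h.prime h.isPGroup h.norm h.fixed).coprime_dvd_right (card_dvd_of_le hX)

theorem generate (h : WardHyp p A G) {X W : Subgroup Γ} (hX : X ≤ G)
    (hAX : A ≤ normalizer (X : Set Γ))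
    (hW : ∀ c ∈ A, c ≠ 1 → X ⊓ centralizer {c} ≤ W) : X ≤ W := by
  have := h.comm
  have hnc : ¬ IsCyclic A := by
    intro hcyc
    obtain ⟨g, hg⟩ := hcyc.exists_generator
    obtain ⟨a, ha, hga⟩ := h.exists_not_mem (g : Γ)
    obtain ⟨k, hk⟩ := hg ⟨a, ha⟩
    exact hga ⟨k, congrArg Subtype.val hk⟩
  rw [← Coprime.iSup_centralizer_eq hnc hAX (h.coprime hX)]
  exact iSup₂_le fun c hc => hW c hc.1 hc.2

/-- Fixed points of `c` in a `q`-group and in an abelian group it normalises commute. -/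
theorem centralize_fixed (h : WardHyp p A G) {Q W : Subgroup Γ} (hQ : Q ≤ G) (hW : W ≤ G)
    [IsMulCommutative W] (hQW : Q ≤ normalizer (W : Set Γ)) (hAQ : A ≤ normalizer (Q : Set Γ))
    (hAW : A ≤ normalizer (W : Set Γ)) (hcop : (Nat.card Q).Coprime (Nat.card W))
    {c : Γ} (hc : c ∈ A) (hc1 : c ≠ 1) :
    Q ⊓ centralizer {c} ≤ centralizer ((W ⊓ centralizer {c} : Subgroup Γ) : Set Γ) := by
  obtain ⟨a, ha, hac⟩ := h.exists_not_mem c
  have : IsMulCommutative (W ⊓ centralizer {c} : Subgroup Γ) :=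
    ⟨⟨fun x y => Subtype.ext (setLike_mul_comm x.2.1 y.2.1)⟩⟩
  exact le_centralizer_of_frobenius h.prime (h.pow a ha)
    (Coprime.le_normalizer_inf_of_le (inf_le_left.trans hQW) inf_le_right)
    (h.norm_fixed hc hAW ha) (h.norm_fixed hc hAQ ha)
    ((hcop.coprime_dvd_left (card_dvd_of_le inf_le_left)).coprime_dvd_right
      (card_dvd_of_le inf_le_left))
    (h.fpf_inf hc hc1 ha hac hW) (h.fpf_inf hc hc1 ha hac hQ)

/-- If `e` has no fixed point on the abelian `U`, then `C_Q(f)` centralises `U` for `f ∉ ⟨e⟩`. -/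
theorem centralize_moved (h : WardHyp p A G) {X U : Subgroup Γ} (hX : X ≤ G)
    [IsMulCommutative U] {f e : Γ} (hf : f ∈ A) (hf1 : f ≠ 1) (he : e ∈ A) (hef : e ∉ zpowers f)
    (hAX : A ≤ normalizer (X : Set Γ)) (hXU : X ⊓ centralizer {f} ≤ normalizer (U : Set Γ))
    (hAU : A ≤ normalizer (U : Set Γ)) (hcop : (Nat.card X).Coprime (Nat.card U))
    (hfU : U ⊓ centralizer {e} = ⊥) : X ⊓ centralizer {f} ≤ centralizer (U : Set Γ) :=
  le_centralizer_of_frobenius h.prime (h.pow e he) hXU (hAU he) (h.norm_fixed hf hAX he)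
    (hcop.coprime_dvd_left (card_dvd_of_le inf_le_left)) hfU (h.fpf_inf hf hf1 he hef hX)

theorem commutator_fixed (h : WardHyp p A G) {Q : Subgroup Γ} (hQ : Q ≤ G) {q : ℕ} (hq : q.Prime)
    (hQq : IsPGroup q Q) (hAQ : A ≤ normalizer (Q : Set Γ)) {b c : Γ} (hb : b ∈ A) (hb1 : b ≠ 1)
    (hc : c ∈ A) (hcb : c ∉ zpowers b) {x y : Γ} (hx : x ∈ Q ⊓ centralizer {b})
    (hy : y ∈ Q ⊓ centralizer {c}) :
    ∀ (n : ℕ) (W : Subgroup Γ), W ≤ G → IsMulCommutative W → A ≤ normalizer (W : Set Γ) →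
      Q ≤ normalizer (W : Set Γ) → (Nat.card Q).Coprime (Nat.card W) →
      Nat.card Q ≤ Nat.card (Q ⊓ centralizer (W : Set Γ) : Subgroup Γ) + n →
      ⁅x, y⁆ ∈ centralizer (W : Set Γ) := by
  intro n
  induction n with
  | zero =>
    intro W hW hWc hAW hQW hcop hn
    have hD : Q ⊓ centralizer (W : Set Γ) = Q := eq_of_le_of_card_ge inf_le_left (by simpa using hn)
    have : ⁅x, y⁆ ∈ Q := by
      rw [commutatorElement_def]
      exact Q.mul_mem (Q.mul_mem (Q.mul_mem hx.1 hy.1) (Q.inv_mem hx.1)) (Q.inv_mem hy.1)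
    exact (hD.symm.le this).2
  | succ n ih =>
    intro W hW hWc hAW hQW hcop hn
    set D := Q ⊓ centralizer (W : Set Γ) with hD
    by_cases hDQ : D = Q
    · have : ⁅x, y⁆ ∈ Q := by
        rw [commutatorElement_def]
        exact Q.mul_mem (Q.mul_mem (Q.mul_mem hx.1 hy.1) (Q.inv_mem hx.1)) (Q.inv_mem hy.1)
      exact (hDQ.symm.le this).2
    have hQD : Q ≤ normalizer (D : Set Γ) :=
      Coprime.le_normalizer_inf le_normalizer (Coprime.le_normalizer_centralizer hQW)
    have hAD : A ≤ normalizer (D : Set Γ) :=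
      Coprime.le_normalizer_inf hAQ (Coprime.le_normalizer_centralizer hAW)
    set D' := D.subgroupOf Q with hD'
    have hD'n : D'.Normal := normal_subgroupOf_iff_le_normalizer inf_le_left |>.mpr hQD
    have := Fact.mk hq
    have hnt : Nontrivial (Q ⧸ D') := by
      rw [← Finite.one_lt_card_iff_nontrivial, ← index_eq_card]
      have h1 : D' ≠ ⊤ := fun e => hDQ (le_antisymm inf_le_left (subgroupOf_eq_top.mp e))
      have h2 : D'.index ≠ 0 := Nat.card_pos.ne'.symm.symm ∘ (index_eq_card (H := D')).symm.trans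
      have h3 : D'.index ≠ 1 := fun e => h1 (index_eq_one.mp e)
      omega
    set Z : Subgroup Γ := ((center (Q ⧸ D')).comap (QuotientGroup.mk' D')).map Q.subtype with hZ
    have hmemZ : ∀ z, z ∈ Z ↔ z ∈ Q ∧ ∀ t ∈ Q, ⁅z, t⁆ ∈ D := by
      intro z
      constructor
      · rintro ⟨z, hz, rfl⟩
        refine ⟨z.2, fun t ht => ?_⟩
        have h1 : QuotientGroup.mk' D' ⁅z, (⟨t, ht⟩ : Q)⁆ = 1 := by
          rw [map_commutatorElement]
          exact commutatorElement_eq_one_iff_commute.mpr ((mem_center_iff.mp hz _).symm)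
        exact mem_subgroupOf.mp ((QuotientGroup.eq_one_iff (N := D') _).mp h1)
      · rintro ⟨hz, hzt⟩
        refine ⟨⟨z, hz⟩, mem_center_iff.mpr fun g => ?_, rfl⟩
        obtain ⟨t, rfl⟩ := QuotientGroup.mk'_surjective D' g
        refine (commutatorElement_eq_one_iff_commute.mp ?_).eq.symm
        rw [← map_commutatorElement, QuotientGroup.mk'_apply, QuotientGroup.eq_one_iff]
        exact hzt t t.2
    have hDZ : D < Z := by
      refine lt_of_le_of_ne (fun d hd => (hmemZ d).mpr ⟨hd.1, fun t ht => ?_⟩) fun e => ?_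
      · rw [commutatorElement_def, mul_assoc, mul_assoc, ← mul_assoc t]
        exact D.mul_mem hd ((mem_normalizer_iff.mp (hQD ht) _).mp (D.inv_mem hd))
      · have := (hQq.to_quotient D').center_nontrivial
        obtain ⟨z, hz1⟩ := exists_ne (1 : center (Q ⧸ D'))
        obtain ⟨z0, hz0⟩ := QuotientGroup.mk'_surjective D' (z : Q ⧸ D')
        have hzZ : (z0 : Γ) ∈ Z := mem_map_of_mem _ (by rw [mem_comap, hz0]; exact z.2)
        rw [← e] at hzZ
        refine hz1 (Subtype.ext ?_)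
        rw [← hz0]
        exact (QuotientGroup.eq_one_iff _).mpr hzZ
    have hZQ : Z ≤ Q := map_subtype_le _
    have hAZ : A ≤ normalizer (Z : Set Γ) := fun a ha => mem_normalizer_of_forall fun z hz => by
      obtain ⟨hz1, hz2⟩ := (hmemZ z).mp hz
      refine (hmemZ _).mpr ⟨(mem_normalizer_iff.mp (hAQ ha) z).mp hz1, fun t ht => ?_⟩
      have h1 := (mem_normalizer_iff.mp (hAD ha) _).mp
        (hz2 _ ((mem_normalizer_iff''.mp (hAQ ha) t).mp ht))
      convert h1 using 1
      simp only [commutatorElement_def]; group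
    have hQZ : Q ≤ normalizer (Z : Set Γ) := fun t ht => mem_normalizer_of_forall fun z hz => by
      have h1 : ⁅z, t⁆ ∈ Z := hDZ.le (((hmemZ z).mp hz).2 t ht)
      have := Z.mul_mem (Z.inv_mem h1) hz
      convert this using 1
      simp only [commutatorElement_def]; group
    have hcopZ : ∀ {X : Subgroup Γ}, X ≤ Q → (Nat.card X).Coprime (Nat.card W) :=
      fun hX => hcop.coprime_dvd_left (card_dvd_of_le hX)
    set S := centralizer ({⁅x, y⁆} : Set Γ)
    have hkey : ∀ e ∈ A, e ≠ 1 → ∀ z ∈ Z ⊓ centralizer {e}, ∀ w ∈ W, ⁅w, z⁆ ∈ S := by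
      intro e he he1 z hz w hw
      set Ze := Z ⊓ centralizer {e}
      set U := ⁅W, Ze⁆ with hU
      have hZeW : Ze ≤ normalizer (W : Set Γ) := (inf_le_left.trans hZQ).trans hQW
      have hUW : U ≤ W := Coprime.commutator_le_of_le_normalizer hZeW
      have : IsMulCommutative U := ⟨⟨fun u v => Subtype.ext (setLike_mul_comm (hUW u.2) (hUW v.2))⟩⟩
      have hAU : A ≤ normalizer (U : Set Γ) := le_normalizer_commutator' hAW (h.norm_fixed he hAZ)
      have hQU : Q ≤ normalizer (U : Set Γ) := fun t ht => by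
        refine mem_normalizer_of_forall fun u hu => ?_
        have hle : U ≤ U.comap (MulAut.conj t).toMonoidHom := by
          rw [hU, commutator_le]
          intro w hw z hz
          rw [mem_comap, map_commutatorElement]
          simp only [MulEquiv.coe_toMonoidHom, MulAut.conj_apply]
          have hd : ⁅t, z⁆ ∈ centralizer (W : Set Γ) := by
            have := (((hmemZ z).mp hz.1).2 t ht).2
            rw [← commutatorElement_inv]
            exact inv_mem this
          have hzt : t * z * t⁻¹ = ⁅t, z⁆ * z := by simp only [commutatorElement_def]; group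
          have hw' : t * w * t⁻¹ ∈ W := (mem_normalizer_iff.mp (hQW ht) w).mp hw
          have hcom : ⁅t * w * t⁻¹, z⁆ ∈ W :=
            Coprime.commutator_le_of_le_normalizer hZeW (commutator_mem_commutator hw' hz)
          have e1 : ⁅t * w * t⁻¹, ⁅t, z⁆ * z⁆ = ⁅t * w * t⁻¹, z⁆ := by
            set d := ⁅t, z⁆
            set w' := t * w * t⁻¹
            have c1 : Commute w' d := mem_centralizer_iff.mp hd w' hw'
            have c2 : Commute ⁅w', z⁆ d := mem_centralizer_iff.mp hd _ hcom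
            calc ⁅w', d * z⁆ = (w' * d * w'⁻¹ * d⁻¹) * (d * ⁅w', z⁆ * d⁻¹) := by
                  simp only [commutatorElement_def]; group
              _ = ⁅w', z⁆ := by
                  rw [c1.eq, ← c2.eq]
                  group
          rw [hzt, e1]
          exact commutator_mem_commutator hw' hz
        exact hle hu
      have hUe : U ⊓ centralizer {e} = ⊥ := by
        rw [eq_bot_iff]
        intro u hu
        rw [← (Coprime.abelian_decomposition hZeW (hcopZ (inf_le_left.trans hZQ))).1]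
        refine ⟨⟨hUW hu.1, ?_⟩, hu.1⟩
        intro z hz
        exact mem_centralizer_iff.mp
          (h.centralize_fixed hQ hW hQW hAQ hAW hcop he he1 ⟨hZQ hz.1, hz.2⟩) u ⟨hUW hu.1, hu.2⟩
          |>.symm
      have hcopU : (Nat.card Q).Coprime (Nat.card U) := hcop.coprime_dvd_right (card_dvd_of_le hUW)
      have hCU : Q ≤ normalizer (centralizer (U : Set Γ) : Set Γ) :=
        Coprime.le_normalizer_centralizer hQU
      have hmem : ⁅x, y⁆ ∈ centralizer (U : Set Γ) := by
        rw [commutatorElement_def]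
        by_cases heb : e ∈ zpowers b
        · have hec : e ∉ zpowers c := fun hec => hcb <| by
            rw [← h.zpowers_eq hb he1 hb1 heb, h.zpowers_eq hc he1 (h.ne_one hcb) hec]
            exact mem_zpowers c
          have hy' := h.centralize_moved hQ hc (h.ne_one hcb) he hec hAQ (inf_le_left.trans hQU)
            hAU hcopU hUe hy
          exact mul_mem ((mem_normalizer_iff.mp (hCU hx.1) y).mp hy') (inv_mem hy')
        · have hx' := h.centralize_moved hQ hb hb1 he heb hAQ (inf_le_left.trans hQU)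
            hAU hcopU hUe hx
          rw [mul_assoc, mul_assoc, ← mul_assoc y]
          exact mul_mem hx' ((mem_normalizer_iff.mp (hCU hy.1) _).mp (inv_mem hx'))
      exact mem_centralizer_singleton_iff.mpr
        (mem_centralizer_iff.mp hmem _ (commutator_mem_commutator hw hz))
    have hZW : Z ≤ normalizer (W : Set Γ) := hZQ.trans hQW
    have hgen : Z ≤ closure {z | ∃ e ∈ A, e ≠ 1 ∧ z ∈ Z ⊓ centralizer {e}} :=
      h.generate (hZQ.trans hQ) hAZ fun e he he1 z hz => subset_closure ⟨e, he, he1, hz⟩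
    have h1 : ⁅W, Z⁆ ≤ S := by
      rw [commutator_le]
      intro w hw z hz
      refine commutator_mem_of_closure ?_ ?_ (hgen hz) hw
      · rintro z ⟨_, _, _, hz⟩; exact hZW hz.1
      · rintro z ⟨e, he, he1, hz⟩; exact hkey e he he1 z hz
    have h2 : W ⊓ centralizer (Z : Set Γ) ≤ S := by
      intro w hw
      refine mem_centralizer_singleton_iff.mpr (mem_centralizer_iff.mp (ih
        (W ⊓ centralizer (Z : Set Γ)) (inf_le_left.trans hW)
        ⟨⟨fun u v => Subtype.ext (setLike_mul_comm u.2.1 v.2.1)⟩⟩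
        (Coprime.le_normalizer_inf hAW (Coprime.le_normalizer_centralizer hAZ))
        (Coprime.le_normalizer_inf hQW (Coprime.le_normalizer_centralizer hQZ))
        (hcop.coprime_dvd_right (card_dvd_of_le inf_le_left)) ?_) w hw)
      have hle : Z ≤ Q ⊓ centralizer ((W ⊓ centralizer (Z : Set Γ) : Subgroup Γ) : Set Γ) :=
        le_inf hZQ (le_centralizer_iff.mp inf_le_right)
      have := Core.card_lt_of_lt hDZ
      have := Subgroup.card_le_of_le hle
      omega
    rw [mem_centralizer_iff]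
    intro w hw
    have hwS : w ∈ S := by
      rw [← (Coprime.abelian_decomposition hZW (hcopZ hZQ)).2] at hw
      exact sup_le h2 h1 hw
    exact mem_centralizer_singleton_iff.mp hwS

/-- The hypotheses of the main step. -/
structure Step (p q : ℕ) (A G V Q : Subgroup Γ) : Prop extends WardHyp p A G where
  le_V : V ≤ G
  comm_V : IsMulCommutative V
  norm_V : A ≤ normalizer (V : Set Γ)
  le_Q : Q ≤ G
  q_prime : q.Prime
  isQ : IsPGroup q Q
  norm_Q : A ≤ normalizer (Q : Set Γ)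
  Q_V : Q ≤ normalizer (V : Set Γ)
  cop : (Nat.card Q).Coprime (Nat.card V)
  faithful : Q ⊓ centralizer (V : Set Γ) = ⊥

/-- The product of the fixed subgroups other than that of `b`. -/
def others (A Q : Subgroup Γ) (b : Γ) : Subgroup Γ :=
  closure {z | ∃ f ∈ A, f ∉ zpowers b ∧ z ∈ Q ⊓ centralizer {f}}

section Step

variable {q : ℕ} {V Q : Subgroup Γ}

theorem others_le (A Q : Subgroup Γ) (b : Γ) : others A Q b ≤ Q :=
  (closure_le _).mpr fun _ ⟨_, _, _, hz⟩ => hz.1

theorem commute_fixed (s : Step p q A G V Q) {b c : Γ} (hb : b ∈ A) (hb1 : b ≠ 1) (hc : c ∈ A)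
    (hcb : c ∉ zpowers b) {x y : Γ} (hx : x ∈ Q ⊓ centralizer {b})
    (hy : y ∈ Q ⊓ centralizer {c}) : Commute x y := by
  have h1 := s.toWardHyp.commutator_fixed s.le_Q s.q_prime s.isQ s.norm_Q hb hb1 hc hcb hx hy
    (Nat.card Q) V s.le_V s.comm_V s.norm_V s.Q_V s.cop (Nat.le_add_left _ _)
  refine commutatorElement_eq_one_iff_commute.mp (mem_bot.mp (s.faithful.le ⟨?_, h1⟩))
  rw [commutatorElement_def]
  exact Q.mul_mem (Q.mul_mem (Q.mul_mem hx.1 hy.1) (Q.inv_mem hx.1)) (Q.inv_mem hy.1)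

theorem others_centralizer (s : Step p q A G V Q) {b : Γ} (hb : b ∈ A) (hb1 : b ≠ 1) :
    others A Q b ≤ centralizer ((Q ⊓ centralizer {b} : Subgroup Γ) : Set Γ) :=
  (closure_le _).mpr fun z ⟨_, hf, hfb, hz⟩ x hx => (commute_fixed s hb hb1 hf hfb hx hz).eq

theorem fixed_centralizes_commutator (s : Step p q A G V Q) {b c : Γ} (hb : b ∈ A) (hb1 : b ≠ 1)
    (hc : c ∈ A) (hcb : c ∉ zpowers b) :
    Q ⊓ centralizer {c} ≤
      centralizer ((⁅V, Q ⊓ centralizer {b}⁆ : Subgroup Γ) : Set Γ) := by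
  have := s.comm_V
  set Qb := Q ⊓ centralizer {b}
  set Qc := Q ⊓ centralizer {c}
  set U1 := ⁅V, Qb⁆
  have hQbV : Qb ≤ normalizer (V : Set Γ) := inf_le_left.trans s.Q_V
  have hQcV : Qc ≤ normalizer (V : Set Γ) := inf_le_left.trans s.Q_V
  have hU1V : U1 ≤ V := Coprime.commutator_le_of_le_normalizer hQbV
  have : IsMulCommutative U1 := ⟨⟨fun u v => Subtype.ext (setLike_mul_comm (hU1V u.2) (hU1V v.2))⟩⟩
  have hcomm : Qc ≤ centralizer (Qb : Set Γ) := fun y hy x hx =>
    (commute_fixed s hb hb1 hc hcb hx hy).eq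
  have hcb' : Qc ≤ normalizer (Qb : Set Γ) := fun y hy => mem_normalizer_of_forall fun x hx => by
    rw [← mem_centralizer_iff.mp (hcomm hy) x hx, mul_inv_cancel_right]; exact hx
  have hbc' : Qb ≤ normalizer (Qc : Set Γ) := fun x hx => mem_normalizer_of_forall fun y hy => by
    rw [mem_centralizer_iff.mp (hcomm hy) x hx, mul_inv_cancel_right]; exact hy
  have hQcU1 : Qc ≤ normalizer (U1 : Set Γ) := le_normalizer_commutator' hQcV hcb'
  have hAU1 : A ≤ normalizer (U1 : Set Γ) :=
    le_normalizer_commutator' s.norm_V (s.toWardHyp.norm_fixed hb s.norm_Q)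
  set U := ⁅U1, Qc⁆
  have hUU1 : U ≤ U1 := Coprime.commutator_le_of_le_normalizer hQcU1
  have hcopc : (Nat.card Qc).Coprime (Nat.card U1) :=
    (s.cop.coprime_dvd_left (card_dvd_of_le inf_le_left)).coprime_dvd_right (card_dvd_of_le hU1V)
  have hcopb : (Nat.card Qb).Coprime (Nat.card V) :=
    s.cop.coprime_dvd_left (card_dvd_of_le inf_le_left)
  have hUbot : U = ⊥ := by
    have : IsMulCommutative U :=
      ⟨⟨fun u v => Subtype.ext (setLike_mul_comm (hUU1 u.2) (hUU1 v.2))⟩⟩
    have hUc : U ⊓ centralizer {c} = ⊥ := by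
      rw [eq_bot_iff]
      intro u hu
      rw [← (Coprime.abelian_decomposition hQcU1 hcopc).1]
      refine ⟨⟨hUU1 hu.1, fun y hy => ?_⟩, hu.1⟩
      exact (mem_centralizer_iff.mp (s.toWardHyp.centralize_fixed s.le_Q s.le_V s.Q_V s.norm_Q
        s.norm_V s.cop hc (s.toWardHyp.ne_one hcb) hy) u ⟨hU1V (hUU1 hu.1), hu.2⟩).symm
    have h1 : Qb ≤ centralizer (U : Set Γ) := s.toWardHyp.centralize_moved s.le_Q hb hb1 hc hcb
      s.norm_Q
      (le_normalizer_commutator' (le_sup_right.trans Coprime.le_normalizer_commutator) hbc')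
      (le_normalizer_commutator' hAU1 (s.toWardHyp.norm_fixed hc s.norm_Q))
      (s.cop.coprime_dvd_right (card_dvd_of_le (hUU1.trans hU1V))) hUc
    rw [eq_bot_iff]
    intro u hu
    rw [← (Coprime.abelian_decomposition hQbV hcopb).1]
    exact ⟨⟨hU1V (hUU1 hu), fun x hx => (mem_centralizer_iff.mp (h1 hx) u hu).symm⟩, hUU1 hu⟩
  exact le_centralizer_iff.mp (commutator_eq_bot_iff_le_centralizer.mp hUbot)

theorem commutator_others (s : Step p q A G V Q) {b : Γ} (hb : b ∈ A) (hb1 : b ≠ 1) {v z : Γ}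
    (hv : v ∈ V) (hz : z ∈ others A Q b) :
    ⁅v, z⁆ ∈ centralizer ((Q ⊓ centralizer {b} : Subgroup Γ) : Set Γ) := by
  refine commutator_mem_of_closure ?_ ?_ hz hv
  · rintro w ⟨_, _, _, hw⟩; exact s.Q_V hw.1
  rintro w ⟨f, hf, hfb, hw⟩ v hv
  exact le_centralizer_iff.mp
    (fixed_centralizes_commutator s hf (s.toWardHyp.ne_one hfb) hb
      (s.toWardHyp.not_mem_symm hb hb1 hf hfb)) (commutator_mem_commutator hv hw)

theorem others_centralizes_commutator (s : Step p q A G V Q) {b : Γ} (hb : b ∈ A) (hb1 : b ≠ 1) :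
    others A Q b ≤ centralizer ((⁅V, Q ⊓ centralizer {b}⁆ : Subgroup Γ) : Set Γ) :=
  (closure_le _).mpr fun _ ⟨_, hf, hfb, hz⟩ => fixed_centralizes_commutator s hb hb1 hf hfb hz

theorem decompose (s : Step p q A G V Q) {b : Γ} (hb : b ∈ A) (hb1 : b ≠ 1) {y : Γ} (hy : y ∈ Q) :
    ∃ yb ∈ Q ⊓ centralizer {b}, ∃ y' ∈ others A Q b, yb * y' = y := by
  refine (Coprime.mem_sup_of_le_normalizer ((others_centralizer s hb hb1).trans fun z hz =>
    mem_normalizer_of_forall fun x hx => ?_)).mp ?_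
  · rw [← mem_centralizer_iff.mp hz x hx, mul_inv_cancel_right]; exact hx
  · refine s.toWardHyp.generate s.le_Q s.norm_Q (fun c hc hc1 => ?_) hy
    by_cases hcb : c ∈ zpowers b
    · refine le_sup_of_le_left ?_
      rw [← centralizer_zpowers c, ← centralizer_zpowers b, s.toWardHyp.zpowers_eq hb hc1 hb1 hcb]
    · exact le_sup_of_le_right fun z hz => subset_closure ⟨c, hc, hcb, hz⟩

theorem inf_others_eq_bot (s : Step p q A G V Q) {y : Γ} (hy : y ∈ Q)
    (hall : ∀ b ∈ A, b ≠ 1 → y ∈ others A Q b) : y = 1 := by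
  have := s.comm_V
  refine mem_bot.mp (s.faithful.le ⟨hy, ?_⟩)
  have hQ' : Q ≤ closure {z | ∃ b ∈ A, b ≠ 1 ∧ z ∈ Q ⊓ centralizer {b}} :=
    s.toWardHyp.generate s.le_Q s.norm_Q fun b hb hb1 z hz => subset_closure ⟨b, hb, hb1, hz⟩
  have hVQ : V ≤ centralizer {y} := by
    rw [← (Coprime.abelian_decomposition s.Q_V s.cop).2]
    refine sup_le (fun v hv => mem_centralizer_singleton_iff.mpr
      (mem_centralizer_iff.mp hv.2 y hy).symm) ?_
    rw [commutator_le]
    intro v hv z hz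
    refine commutator_mem_of_closure ?_ ?_ (hQ' hz) hv
    · rintro w ⟨_, _, _, hw⟩; exact s.Q_V hw.1
    rintro w ⟨b, hb, hb1, hw⟩ v hv
    exact mem_centralizer_singleton_iff.mpr (mem_centralizer_iff.mp
      (others_centralizes_commutator s hb hb1 (hall b hb hb1)) _ (commutator_mem_commutator hv hw))
  intro v hv
  exact mem_centralizer_singleton_iff.mp (hVQ hv)

/-- Separation: if `yb * y'` fixes `u ∈ V` then so does `yb`. -/
theorem separate (s : Step p q A G V Q) {b : Γ} (hb : b ∈ A) (hb1 : b ≠ 1) {yb y' u : Γ}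
    (hyb : yb ∈ Q ⊓ centralizer {b}) (hy' : y' ∈ others A Q b) (hu : u ∈ V)
    (h : Commute (yb * y') u) : Commute yb u := by
  set e := yb * u * yb⁻¹ * u⁻¹ with he
  set e' := ⁅y', u⁆ with he'
  have heV : e ∈ V :=
    V.mul_mem ((mem_normalizer_iff.mp (s.Q_V hyb.1) u).mp hu) (V.inv_mem hu)
  have hc : Commute yb e' := by
    rw [he', ← commutatorElement_inv]
    exact (show Commute yb ⁅u, y'⁆ from
      mem_centralizer_iff.mp (commutator_others s hb hb1 hu hy') yb hyb).inv_right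
  have h1 : yb * y' * u * (yb * y')⁻¹ = e' * e * u := by
    calc yb * y' * u * (yb * y')⁻¹ = (yb * e' * yb⁻¹) * (yb * u * yb⁻¹ * u⁻¹) * u := by
          rw [he', commutatorElement_def]; group
      _ = e' * e * u := by rw [hc.eq, mul_inv_cancel_right]
  rw [h.eq, mul_inv_cancel_right] at h1
  have h2 : e' = e⁻¹ := by
    have := mul_right_cancel (a := e' * e) (b := u) (c := 1) (by rw [← h1, one_mul])
    exact mul_eq_one_iff_eq_inv.mp this
  have hce : Commute yb e := by
    have := hc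
    rw [h2] at this
    simpa using this.inv_right
  have h3 : ∀ n : ℕ, yb ^ n * u * (yb ^ n)⁻¹ = e ^ n * u := by
    intro n
    induction n with
    | zero => simp
    | succ n ih =>
      calc yb ^ (n + 1) * u * (yb ^ (n + 1))⁻¹
          = yb * (yb ^ n * u * (yb ^ n)⁻¹) * yb⁻¹ := by rw [pow_succ']; group
        _ = yb * (e ^ n * u) * yb⁻¹ := by rw [ih]
        _ = (yb * e ^ n * yb⁻¹) * (yb * u * yb⁻¹) := by group
        _ = e ^ n * (e * u) := by
              rw [(hce.pow_right n).eq, mul_inv_cancel_right, he, inv_mul_cancel_right]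
        _ = e ^ (n + 1) * u := by rw [pow_succ]; group
  have h4 := h3 (orderOf yb)
  rw [pow_orderOf_eq_one, one_mul, inv_one, mul_one] at h4
  have h5 : orderOf e ∣ 1 := by
    rw [← s.cop.gcd_eq_one]
    refine Nat.dvd_gcd ?_ (Subgroup.orderOf_dvd_natCard V heV)
    exact (orderOf_dvd_of_pow_eq_one (mul_eq_right.mp h4.symm)).trans
      (Subgroup.orderOf_dvd_natCard Q hyb.1)
  rw [Nat.dvd_one, orderOf_eq_one_iff] at h5
  exact mul_inv_eq_iff_eq_mul.mp (mul_inv_eq_one.mp (he ▸ h5))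

/-- The centraliser in `Q` of `C_V(C_Q(b))` is `C_Q(b)`. -/
theorem mem_fixed_iff (s : Step p q A G V Q) {b : Γ} (hb : b ∈ A) (hb1 : b ≠ 1) {y : Γ} :
    y ∈ Q ⊓ centralizer {b} ↔ y ∈ Q ∧
      ∀ v ∈ V ⊓ centralizer ((Q ⊓ centralizer {b} : Subgroup Γ) : Set Γ), Commute y v := by
  have := s.comm_V
  refine ⟨fun hy => ⟨hy.1, fun v hv => mem_centralizer_iff.mp hv.2 y hy⟩, fun ⟨hy, hv⟩ => ?_⟩
  obtain ⟨yb, hyb, y', hy', rfl⟩ := decompose s hb hb1 hy
  have h1 : ∀ v ∈ V, Commute y' v := by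
    have h2 : V ≤ centralizer {y'} := by
      rw [← (Coprime.abelian_decomposition
        ((inf_le_left : Q ⊓ centralizer {b} ≤ Q).trans s.Q_V)
        (s.cop.coprime_dvd_left (card_dvd_of_le inf_le_left))).2]
      refine sup_le (fun v hv' => ?_) (fun z hz => ?_)
      · have h3 : Commute yb v := mem_centralizer_iff.mp hv'.2 yb hyb
        refine mem_centralizer_singleton_iff.mpr ?_
        have h4 := h3.inv_left.mul_left (hv v hv')
        rw [inv_mul_cancel_left] at h4
        exact h4.symm.eq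
      · exact mem_centralizer_singleton_iff.mpr
          (mem_centralizer_iff.mp (others_centralizes_commutator s hb hb1 hy') z hz)
    exact fun v hv => (mem_centralizer_singleton_iff.mp (h2 hv)).symm
  have h5 : y' = 1 := mem_bot.mp (s.faithful.le ⟨others_le A Q b hy', fun v hv => (h1 v hv).symm⟩)
  rwa [h5, mul_one]

theorem others_inf (s : Step p q A G V Q) {c f : Γ} (hc : c ∈ A) (hc1 : c ≠ 1) (hf : f ∈ A)
    (hfc : f ∈ zpowers c) (hf1 : f ≠ 1) : others A Q f = others A Q c := by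
  unfold others
  rw [s.toWardHyp.zpowers_eq hc hf1 hc1 hfc]

/-- Elements of `Q` centralising a set in `V` decompose inside the fixed subgroups doing so. -/
theorem centralizer_decompose (s : Step p q A G V Q) {U : Set Γ} (hU : U ⊆ V) {y : Γ}
    (hy : y ∈ Q ⊓ centralizer U) {M0 : Subgroup Γ}
    (hM0 : ∀ c ∈ A, c ≠ 1 → Q ⊓ centralizer {c} ⊓ centralizer U ≤ M0)
    (hM0le : M0 ≤ Q ⊓ centralizer U) : y ∈ M0 := by
  classical
  have := Fintype.ofFinite A
  suffices h : ∀ t : Finset Γ, (∀ c ∈ t, c ∈ A ∧ c ≠ 1) →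
      ∃ m ∈ M0, ∀ c ∈ t, m⁻¹ * y ∈ others A Q c by
    obtain ⟨m, hm, hmy⟩ := h ((Finset.univ.filter fun a : A => (a : Γ) ≠ 1).map
      ⟨Subtype.val, Subtype.val_injective⟩) (fun c hc => by
        obtain ⟨a, ha, rfl⟩ := Finset.mem_map.mp hc
        exact ⟨a.2, (Finset.mem_filter.mp ha).2⟩)
    have h1 : m⁻¹ * y = 1 := inf_others_eq_bot s (Q.mul_mem (Q.inv_mem (hM0le hm).1) hy.1)
      fun b hb hb1 => hmy b (Finset.mem_map.mpr ⟨⟨b, hb⟩, Finset.mem_filter.mpr
        ⟨Finset.mem_univ _, hb1⟩, rfl⟩)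
    rwa [← inv_mul_eq_one.mp h1]
  intro t
  induction t using Finset.induction with
  | empty => exact fun _ => ⟨1, one_mem _, fun c hc => absurd hc (Finset.notMem_empty c)⟩
  | insert c t hct ih =>
    intro ht
    obtain ⟨m, hm, hmy⟩ := ih fun f hf => ht f (Finset.mem_insert_of_mem hf)
    obtain ⟨hc, hc1⟩ := ht c (Finset.mem_insert_self c t)
    have hk : m⁻¹ * y ∈ Q ⊓ centralizer U :=
      mul_mem (inv_mem (hM0le hm)) hy
    obtain ⟨kc, hkc, k', hk', he⟩ := decompose s hc hc1 hk.1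
    have hkcU : kc ∈ centralizer U := fun u hu => (separate s hc hc1 hkc hk' (hU hu)
      (he ▸ (show Commute (m⁻¹ * y) u from (hk.2 u hu).symm))).eq.symm
    refine ⟨m * kc, mul_mem hm (hM0 c hc hc1 ⟨hkc, hkcU⟩), fun f hf => ?_⟩
    have e : (m * kc)⁻¹ * y = k' := by
      rw [mul_inv_rev, mul_assoc, ← he, inv_mul_cancel_left]
    rw [e]
    rcases Finset.mem_insert.mp hf with rfl | hf
    · exact hk'
    obtain ⟨hfA, hf1⟩ := ht f (Finset.mem_insert_of_mem hf)
    by_cases hcf : c ∈ zpowers f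
    · rwa [← others_inf s hfA hf1 hc hcf hc1]
    · have h1 : kc ∈ others A Q f := subset_closure ⟨c, hc, hcf, hkc⟩
      have h2 := hmy f hf
      rw [← he] at h2
      exact (mul_mem_cancel_left h1).mp h2

/-- Invariant subgroups of order prime to `q` normalising `Q` and `V` centralise `Q`. -/
theorem main (s : Step p q A G V Q) {R : Subgroup Γ} (hR : R ≤ G) {r : ℕ} (hr : r.Prime)
    (hRr : IsPGroup r R) (hrq : r ≠ q) (hAR : A ≤ normalizer (R : Set Γ))
    (hRQ : R ≤ normalizer (Q : Set Γ)) (hRV : R ≤ normalizer (V : Set Γ)) :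
    R ≤ centralizer (Q : Set Γ) := by
  have hw := s.toWardHyp
  have := s.comm_V
  have := hw.comm
  have hAsolv : Group.IsSolvable A := Group.isSolvable_of_comm fun a b => (hw.comm).is_comm.comm a b
  have hP2 : ∀ c ∈ A, c ≠ 1 →
      R ⊓ centralizer {c} ≤ centralizer ((Q ⊓ centralizer {c} : Subgroup Γ) : Set Γ) := by
    intro c hc hc1
    obtain ⟨a, ha, hac⟩ := hw.exists_not_mem c
    exact le_centralizer_of_fpf hw.prime (hw.pow a ha) (hw.norm_fixed hc hw.norm ha)
      (Core.isSolvable_mono hw.solv inf_le_left) (hw.fpf_inf hc hc1 ha hac le_rfl) hr s.q_prime hrq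
      (hRr.to_le inf_le_left) (s.isQ.to_le inf_le_left) (inf_le_inf_right _ hR)
      (inf_le_inf_right _ s.le_Q)
  have hnorm : ∀ b ∈ A, b ≠ 1 →
      R ≤ normalizer ((Q ⊓ centralizer {b} : Subgroup Γ) : Set Γ) := by
    intro b hb hb1
    refine hw.generate hR hAR fun d hd hd1 x hx => ?_
    set Qb := Q ⊓ centralizer {b} with hQb
    by_cases hbd : b ∈ zpowers d
    · refine mem_normalizer_of_forall fun y hy => ?_
      have hy' : y ∈ Q ⊓ centralizer {d} := by
        refine ⟨hy.1, ?_⟩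
        rw [← centralizer_zpowers, ← hw.zpowers_eq hd hb1 hd1 hbd, centralizer_zpowers]
        exact hy.2
      rw [← mem_centralizer_iff.mp (hP2 d hd hd1 hx) y hy', mul_inv_cancel_right]
      exact hy
    set U : Set Γ := (fun v => x * v * x⁻¹) '' ((V ⊓ centralizer (Qb : Set Γ) : Subgroup Γ) : Set Γ)
    have hUV : U ⊆ V := by
      rintro _ ⟨v, hv, rfl⟩
      exact (mem_normalizer_iff.mp (hRV hx.1) v).mp hv.1
    set M := Q ⊓ centralizer U with hM
    have hMeq : ∀ y, y ∈ M ↔ x⁻¹ * y * x ∈ Qb := by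
      intro y
      rw [hQb, mem_fixed_iff s hb hb1]
      refine and_congr (mem_normalizer_iff''.mp (hRQ hx.1) y) ?_
      constructor
      · intro h v hv
        have h1 : Commute y (x * v * x⁻¹) := (h _ ⟨v, hv, rfl⟩).symm
        have := congrArg (fun t => x⁻¹ * t * x) h1.eq
        simpa [Commute, SemiconjBy, mul_assoc] using this
      · rintro h _ ⟨v, hv, rfl⟩
        have := congrArg (fun t => x * t * x⁻¹) (h v hv).eq.symm
        simpa [mul_assoc] using this
    have hd0 : Commute d x := (mem_centralizer_singleton_iff.mp hx.2).symm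
    have hdM : d ∈ normalizer (M : Set Γ) := mem_normalizer_of_forall fun y hy => by
      rw [hMeq] at hy ⊢
      have h1 := (mem_normalizer_iff.mp (hw.norm_fixed hb s.norm_Q hd) _).mp hy
      convert h1 using 1
      calc x⁻¹ * (d * y * d⁻¹) * x = (x⁻¹ * d) * y * (d⁻¹ * x) := by group
        _ = d * (x⁻¹ * y * x) * d⁻¹ := by rw [hd0.inv_right.eq.symm, hd0.inv_left.eq]; group
    set M0 : Subgroup Γ :=
      closure {z | ∃ c ∈ A, c ≠ 1 ∧ z ∈ Q ⊓ centralizer {c} ⊓ centralizer U}
    have hM0M : M0 ≤ M := (closure_le _).mpr fun _ ⟨_, _, _, hz⟩ => ⟨hz.1.1, hz.2⟩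
    have hMM0 : M ≤ M0 := fun y hy => centralizer_decompose s hUV hy
      (fun c hc hc1 z hz => subset_closure ⟨c, hc, hc1, hz⟩) hM0M
    have hAM : A ≤ normalizer (M : Set Γ) := fun a ha => mem_normalizer_of_forall fun y hy => by
      suffices hle : M0 ≤ M.comap (MulAut.conj a).toMonoidHom from hle (hMM0 hy)
      refine (closure_le _).mpr ?_
      rintro z ⟨c, hc, hc1, hz⟩
      rw [SetLike.mem_coe, mem_comap]
      simp only [MulEquiv.coe_toMonoidHom, MulAut.conj_apply]
      by_cases hcd : c ∈ zpowers d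
      · have hz' : z ∈ Q ⊓ centralizer {d} := by
          refine ⟨hz.1.1, ?_⟩
          rw [← centralizer_zpowers, ← hw.zpowers_eq hd hc1 hd1 hcd, centralizer_zpowers]
          exact hz.1.2
        have h1 : x⁻¹ * z * x ∈ Qb := (hMeq z).mp ⟨hz.1.1, hz.2⟩
        rw [mul_assoc, mem_centralizer_iff.mp (hP2 d hd hd1 hx) z hz', inv_mul_cancel_left] at h1
        have h2 : z = 1 := hw.eq_one_of_commute hd hd1 hb hbd (s.le_Q hz.1.1)
          (mem_centralizer_singleton_iff.mp hz'.2).symm (mem_centralizer_singleton_iff.mp h1.2).symm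
        rw [h2, mul_one, mul_inv_cancel]
        exact one_mem M
      · have hle : A ≤ normalizer ((Q ⊓ centralizer {c} ⊓ M : Subgroup Γ) : Set Γ) := by
          rw [← hw.sup_eq hd hd1 hc hcd, sup_le_iff, zpowers_le, zpowers_le]
          refine ⟨inf_normalizer_le_normalizer_inf ⟨hw.norm_fixed hc s.norm_Q hd, hdM⟩,
            mem_normalizer_of_forall fun z hz => ?_⟩
          rw [← mem_centralizer_singleton_iff.mp hz.1.2, mul_inv_cancel_right]
          exact hz
        exact ((mem_normalizer_iff.mp (hle ha) z).mp ⟨hz.1, hz.1.1, hz.2⟩).2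
    -- `x` normalises `Qb`
    set N := R ⊓ centralizer {d} ⊓ normalizer (Qb : Set Γ) with hN
    have hAN : A ≤ normalizer (N : Set Γ) :=
      Coprime.le_normalizer_inf (hw.norm_fixed hd hAR) fun a ha => mem_normalizer_of_forall
        fun n hn => by
          have h1 := hw.norm_fixed hb s.norm_Q ha
          exact mul_mem (mul_mem h1 hn) (inv_mem h1)
    have hfixN : ∀ a ∈ A, x⁻¹ * (a * x * a⁻¹) ∈ N := by
      intro a ha
      have hx' : a * x * a⁻¹ ∈ R ⊓ centralizer {d} :=
        (mem_normalizer_iff.mp (hw.norm_fixed hd hAR ha) x).mp hx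
      refine ⟨(R ⊓ centralizer {d}).mul_mem (inv_mem hx) hx', mem_normalizer_of_forall fun y hy => ?_⟩
      have hy1 : a⁻¹ * y * a ∈ Qb := (mem_normalizer_iff''.mp (hw.norm_fixed hb s.norm_Q ha) y).mp hy
      have hy2 : x * (a⁻¹ * y * a) * x⁻¹ ∈ M := by
        rw [hMeq]
        simpa [mul_assoc] using hy1
      have hy3 := (hMeq _).mp ((mem_normalizer_iff.mp (hAM ha) _).mp hy2)
      convert hy3 using 1
      group
    obtain ⟨n, hn, hxn⟩ := Coprime.exists_fixed_mem_leftCoset hAN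
      (hw.coprime (inf_le_left.trans (inf_le_left.trans hR))) (Or.inl hAsolv) hfixN
    have h1 : x * n = 1 := mem_bot.mp (hw.fixed.le ⟨G.mul_mem (hR hx.1) (hR hn.1.1), hxn⟩)
    rw [mul_eq_one_iff_eq_inv.mp h1]
    exact inv_mem hn.2
  have hcent : ∀ b ∈ A, b ≠ 1 →
      R ≤ centralizer ((Q ⊓ centralizer {b} : Subgroup Γ) : Set Γ) := by
    intro b hb hb1 x hx
    set Qb := Q ⊓ centralizer {b} with hQb
    set N := R ⊓ centralizer (Qb : Set Γ)
    have hzb : zpowers b ≤ A := zpowers_le.mpr hb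
    have hAN : zpowers b ≤ normalizer (N : Set Γ) := hzb.trans
      (Coprime.le_normalizer_inf hAR
        (Coprime.le_normalizer_centralizer (hw.norm_fixed hb s.norm_Q)))
    have hk : ∀ a ∈ zpowers b, x⁻¹ * (a * x * a⁻¹) ∈ N := by
      intro a ha
      have hx' : a * x * a⁻¹ ∈ R := (mem_normalizer_iff.mp (hAR (hzb ha)) x).mp hx
      refine ⟨R.mul_mem (R.inv_mem hx) hx', fun y hy => ?_⟩
      have hay : ∀ t ∈ Qb, Commute a t := fun t ht => by
        have : t ∈ centralizer ((zpowers b : Subgroup Γ) : Set Γ) := by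
          rw [centralizer_zpowers]; exact ht.2
        exact mem_centralizer_iff.mp this a ha
      have h1 : a * x * a⁻¹ * y * (a * x * a⁻¹)⁻¹ = x * y * x⁻¹ := by
        calc a * x * a⁻¹ * y * (a * x * a⁻¹)⁻¹ = a * (x * (a⁻¹ * y * a) * x⁻¹) * a⁻¹ := by group
          _ = a * (x * y * x⁻¹) * a⁻¹ := by
              rw [mul_assoc a⁻¹ y a, ← (hay y hy).eq, inv_mul_cancel_left]
          _ = x * y * x⁻¹ := by
              rw [(hay _ ((mem_normalizer_iff.mp (hnorm b hb hb1 hx) y).mp hy)).eq,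
                mul_inv_cancel_right]
      calc y * (x⁻¹ * (a * x * a⁻¹))
          = x⁻¹ * (x * y * x⁻¹) * (a * x * a⁻¹) := by group
        _ = x⁻¹ * (a * x * a⁻¹) * y := by rw [← h1]; group
    obtain ⟨n, hn, hxn⟩ := Coprime.exists_fixed_mem_leftCoset hAN
      ((hw.coprime (inf_le_left.trans hR)).coprime_dvd_left (card_dvd_of_le hzb))
      (Or.inl (Core.isSolvable_mono hAsolv hzb)) hk
    rw [centralizer_zpowers] at hxn
    have h2 := hP2 b hb hb1 ⟨R.mul_mem hx hn.1, hxn⟩
    exact (mul_mem_cancel_right (H := centralizer (Qb : Set Γ)) hn.2).mp h2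
  rw [le_centralizer_iff]
  refine hw.generate s.le_Q s.norm_Q fun b hb hb1 => ?_
  exact le_centralizer_iff.mp (hcent b hb hb1)

end Step

end WardHyp

end Cfsg.Agent.FixedPointFree
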