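import Cfsg.Agent.FixedPointFree.Ward

/-!
The induction in Ward's theorem.
-/

set_option autoImplicit false

open Subgroup
open scoped Pointwise commutatorElement

namespace Cfsg.Agent.FixedPointFree

universe u

variable {Γ : Type u} [Group Γ] [Finite Γ]

theorem exists_stable_lowerCentralSeries (G : Subgroup Γ) :
    ∃ m, ∀ j, m ≤ j → G.lowerCentralSeries j = G.lowerCentralSeries m := by
  classical
  have hex : ∃ n, ∃ k, Nat.card (G.lowerCentralSeries k) = n := ⟨_, 0, rfl⟩
  obtain ⟨m, hm⟩ := Nat.find_spec hex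
  refine ⟨m, fun j hj => eq_of_le_of_card_ge (G.lowerCentralSeries_antitone hj) ?_⟩
  rw [hm]
  exact Nat.find_le ⟨j, rfl⟩

/-- `K` is nilpotent if it is nilpotent modulo two normal subgroups meeting trivially in it. -/
theorem isNilpotent_of_two {K W₁ W₂ : Subgroup Γ} [W₁.Normal] [W₂.Normal]
    (h : K ⊓ W₁ ⊓ W₂ = ⊥) (h₁ : Group.IsNilpotent (K.map (QuotientGroup.mk' W₁)))
    (h₂ : Group.IsNilpotent (K.map (QuotientGroup.mk' W₂))) : Group.IsNilpotent K := by
  obtain ⟨a, ha⟩ := (isNilpotent_iff_lowerCentralSeries _).mp h₁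
  obtain ⟨b, hb⟩ := (isNilpotent_iff_lowerCentralSeries _).mp h₂
  refine (isNilpotent_iff_lowerCentralSeries _).mpr ⟨a + b, ?_⟩
  rw [← map_lowerCentralSeries, Subgroup.map_eq_bot_iff, QuotientGroup.ker_mk'] at ha hb
  rw [eq_bot_iff, ← h]
  refine le_inf (le_inf ?_ ?_) ?_
  · exact (K.lowerCentralSeries_antitone (Nat.zero_le _)).trans K.lowerCentralSeries_zero.le
  · exact (K.lowerCentralSeries_antitone (Nat.le_add_right a b)).trans ha
  · exact (K.lowerCentralSeries_antitone (Nat.le_add_left b a)).trans hb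

namespace WardHyp

variable {p : ℕ} {A G : Subgroup Γ}

theorem quotient (h : WardHyp p A G) (W : Subgroup Γ) [W.Normal] [G.Normal] (hWG : W ≤ G) :
    WardHyp p (A.map (QuotientGroup.mk' W)) (G.map (QuotientGroup.mk' W)) := by
  have := h.comm
  have := (inferInstance : G.Normal).map (QuotientGroup.mk' W) (QuotientGroup.mk'_surjective W)
  refine ⟨h.prime, ?_, ?_, ?_, le_normalizer_of_normal,
    fixed_map_eq_bot _ h.prime h.isPGroup h.norm (by rw [QuotientGroup.ker_mk']; exact hWG) h.fixed,
    Core.isSolvable_map h.solv _⟩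
  · rintro _ ⟨a, ha, rfl⟩
    rw [← map_pow, h.pow a ha, map_one]
  · refine ⟨⟨?_⟩⟩
    rintro ⟨_, a, ha, rfl⟩ ⟨_, b, hb, rfl⟩
    exact Subtype.ext ((h.commute ha hb).map (QuotientGroup.mk' W)).eq
  · rw [← relIndex_ker, QuotientGroup.ker_mk', ← inf_relIndex_right,
      Coprime.inf_eq_bot_of_coprime (h.coprime hWG).symm, relIndex_bot_left, h.card_eq]

end WardHyp

/-- **Ward's theorem.** -/
theorem ward_aux {p : ℕ} : ∀ n : ℕ, ∀ {Δ : Type u} [Group Δ] [Finite Δ] (A G : Subgroup Δ)
    [G.Normal], WardHyp p A G → Nat.card G ≤ n →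
    ∃ k, Group.IsNilpotent (G.lowerCentralSeries k) := by
  intro n
  induction n with
  | zero => intro Δ _ _ A G _ _ h; exact absurd h (by have := Nat.card_pos (α := G); omega)
  | succ n ih =>
    intro Δ _ _ A G hGn hw hn
    obtain ⟨m, hm⟩ := exists_stable_lowerCentralSeries G
    refine ⟨m, ?_⟩
    set K := G.lowerCentralSeries m with hK
    have hnorm : ∀ j, (G.lowerCentralSeries j).Normal := by
      intro j
      induction j with
      | zero => exact hGn
      | succ j ihj => rw [Subgroup.lowerCentralSeries_succ]; infer_instance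
    have hKn : K.Normal := hnorm m
    have hKG : K ≤ G := (G.lowerCentralSeries_antitone (Nat.zero_le _)).trans G.lowerCentralSeries_zero.le
    have hKK : ⁅K, G⁆ = K := by
      rw [hK, ← Subgroup.lowerCentralSeries_succ]
      exact hm (m + 1) (Nat.le_succ m)
    by_cases hG : G = ⊥
    · have : K = ⊥ := le_bot_iff.mp (hKG.trans hG.le)
      rw [this]
      infer_instance
    have hred : ∀ (W : Subgroup Δ) [W.Normal], W ≤ G → W ≠ ⊥ →
        Group.IsNilpotent (K.map (QuotientGroup.mk' W)) := by
      intro W _ hWG hW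
      have := hGn.map (QuotientGroup.mk' W) (QuotientGroup.mk'_surjective W)
      obtain ⟨k, hk⟩ := ih _ _ (hw.quotient W hWG)
        (Nat.lt_succ_iff.mp ((card_map_quotient_lt hWG hW).trans_le hn))
      refine Core.isNilpotent_mono hk ?_
      rw [← hm (max m k) (le_max_left _ _), map_lowerCentralSeries]
      exact Subgroup.lowerCentralSeries_antitone _ (le_max_right _ _)
    obtain ⟨V, hVG, hV⟩ := Core.exists_isMinNormal_le hG
    have := hV.normal
    have : Group.IsSolvable V := Core.isSolvable_mono hw.solv hVG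
    have := hV.isMulCommutative
    obtain ⟨l, hl, hVl, -⟩ := hV.exists_isPGroup
    rcases hV.le_or_inf_eq_bot K with hVK | hVK
    swap
    · exact isNilpotent_of_two (W₁ := V) (W₂ := V)
        (by rw [inf_comm K V, hVK, bot_inf_eq]) (hred V hVG hV.ne_bot) (hred V hVG hV.ne_bot)
    by_contra hnot
    refine hnot (isNilpotent_of_map hVK (hred V hVG hV.ne_bot) hl hVl fun q hq hql => ?_)
    have := Fact.mk hq
    have := Fact.mk hl
    have := hw.comm
    have hAsolv : Group.IsSolvable A :=
      Group.isSolvable_of_comm fun a b => (hw.comm).is_comm.comm a b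
    obtain ⟨S, hAS⟩ := Coprime.exists_invariant_sylow (p := q) (A := A) (K := K)
      le_normalizer_of_normal (hw.coprime hKG) (Or.inl hAsolv)
    refine ⟨S, ?_⟩
    set S' := (S : Subgroup K).map K.subtype with hS'
    by_contra hSV
    have hS'K : S' ≤ K := map_subtype_le _
    have hS'q : IsPGroup q S' := S.2.map _
    have hcop : (Nat.card S').Coprime (Nat.card V) := by
      obtain ⟨a, ha⟩ := hS'q.exists_card_eq
      obtain ⟨b, hb⟩ := hVl.exists_card_eq
      rw [ha, hb]
      exact ((Nat.coprime_primes hq hl).mpr hql).pow a b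
    have hSVn : S' ≤ normalizer (V : Set Δ) := le_normalizer_of_normal
    have hconj : ∀ g : Δ, ∀ s ∈ S', ∃ s' ∈ S', ∃ v ∈ V, g * s * g⁻¹ = s' * v := fun g s hs =>
      conj_mem_mul_of_map_nilpotent hVK (hred V hVG hV.ne_bot) S
        (by rw [normalizer_eq_top_iff.mpr hKn]; exact mem_top g) hs
    -- `C_V(S)` and `C_S(V)` are normal
    have hCn : (V ⊓ centralizer (S' : Set Δ)).Normal := by
      refine ⟨fun v hv g => ⟨(inferInstance : V.Normal).conj_mem v hv.1 g, fun s hs => ?_⟩⟩
      obtain ⟨s', hs', v', hv', he⟩ := hconj g⁻¹ s hs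
      rw [inv_inv] at he
      have h1 : Commute v (g⁻¹ * s * g) := he ▸
        ((show Commute v s' from (hv.2 s' hs').symm).mul_right (setLike_mul_comm hv.1 hv'))
      calc s * (g * v * g⁻¹) = g * ((g⁻¹ * s * g) * v) * g⁻¹ := by group
        _ = g * v * g⁻¹ * s := by rw [← h1.eq]; group
    rcases hV.eq_of_le _ hCn inf_le_left with hC | hC
    swap
    · exact hSV (le_centralizer_iff.mp (inf_eq_left.mp hC))
    have hDn : (S' ⊓ centralizer (V : Set Δ)).Normal := by
      refine ⟨fun s hs g => ?_⟩
      obtain ⟨s', hs', v', hv', he⟩ := hconj g s hs.1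
      have h1 : g * s * g⁻¹ ∈ centralizer (V : Set Δ) :=
        (inferInstance : (centralizer (V : Set Δ)).Normal).conj_mem s hs.2 g
      have h2 : s' ∈ centralizer (V : Set Δ) := by
        have hv2 : v' ∈ centralizer (V : Set Δ) := fun w hw => setLike_mul_comm hw hv'
        rw [he] at h1
        exact (mul_mem_cancel_right hv2).mp h1
      have h3 : Commute s' v' := (mem_centralizer_iff.mp h2 v' hv').symm
      obtain ⟨a, ha⟩ := hS'q ⟨s, hs.1⟩
      obtain ⟨b, hb⟩ := hS'q ⟨s', hs'⟩
      have ha' : s ^ q ^ a = 1 := congrArg Subtype.val ha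
      have hb' : s' ^ q ^ b = 1 := congrArg Subtype.val hb
      have h4 : v' ^ q ^ (a + b) = 1 := by
        have h5 : (s' * v') ^ q ^ (a + b) = 1 := by
          rw [← he, conj_pow, pow_add, pow_mul, ha', one_pow, mul_one, mul_inv_cancel]
        rwa [h3.mul_pow, pow_add q, mul_comm (q ^ a), pow_mul s', hb', one_pow, one_mul,
          mul_comm (q ^ b), ← pow_add] at h5
      obtain ⟨i, hi⟩ := hVl ⟨v', hv'⟩
      have hi' : v' ^ l ^ i = 1 := congrArg Subtype.val hi
      have hv1 : v' = 1 := by
        rw [← orderOf_eq_one_iff, ← Nat.dvd_one,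
          ← ((Nat.coprime_primes hq hl).mpr hql |>.pow (a + b) i).gcd_eq_one]
        exact Nat.dvd_gcd (orderOf_dvd_of_pow_eq_one h4) (orderOf_dvd_of_pow_eq_one hi')
      rw [he, hv1, mul_one]
      exact ⟨hs', h2⟩
    by_cases hD : S' ⊓ centralizer (V : Set Δ) = ⊥
    swap
    · refine hnot (isNilpotent_of_two (W₁ := V) (W₂ := S' ⊓ centralizer (V : Set Δ)) ?_
        (hred V hVG hV.ne_bot) (hred _ (inf_le_left.trans (hS'K.trans hKG)) hD))
      rw [eq_bot_iff]
      intro x hx
      rw [← Coprime.inf_eq_bot_of_coprime hcop]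
      exact ⟨hx.2.1, hx.1.2⟩
    have step : WardHyp.Step p q A G V S' :=
      { toWardHyp := hw
        le_V := hVG
        comm_V := inferInstance
        norm_V := le_normalizer_of_normal
        le_Q := hS'K.trans hKG
        q_prime := hq
        isQ := hS'q
        norm_Q := hAS
        Q_V := hSVn
        cop := hcop
        faithful := hD }
    set N := G ⊓ normalizer (S' : Set Δ) with hN
    set π := QuotientGroup.mk' V with hπ
    have hπker : π.ker = V := QuotientGroup.ker_mk' V
    have hAN : A ≤ normalizer (N : Set Δ) :=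
      Coprime.le_normalizer_inf le_normalizer_of_normal (hAS.trans le_normalizer)
    -- the Frattini argument
    have hNG : N.map π = G.map π := by
      refine le_antisymm (map_mono inf_le_left) ?_
      rintro _ ⟨g, hg, rfl⟩
      have hB : MulAut.conj g • S' ≤ V ⊔ S' := by
        intro y hy
        obtain ⟨s', hs', v, hv, he⟩ := hconj g _ (Coprime.mem_conj_smul.mp hy)
        have : y = s' * v := by rw [← he]; group
        rw [this]
        exact mul_mem (le_sup_right (a := V) hs') (le_sup_left (b := S') hv)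
      obtain ⟨v, hv, hvB⟩ := Coprime.exists_conj_eq hSVn hcop (Or.inr inferInstance) hB
        (Coprime.card_conj_smul g S')
      rw [← Coprime.conj_mul_smul] at hvB
      refine ⟨v * g, ⟨G.mul_mem (hVG hv) hg, Coprime.mem_normalizer_of_conj_smul_eq hvB⟩, ?_⟩
      rw [map_mul, show π v = 1 from (QuotientGroup.eq_one_iff v).mpr hv, one_mul]
    set Kb := K.map π
    set Sb := S'.map π with hSb
    have hKbn : Kb.Normal := hKn.map π (QuotientGroup.mk'_surjective V)
    have hSbn : Sb.Normal := by
      refine ⟨fun y hy g => ?_⟩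
      obtain ⟨s, hs, rfl⟩ := hy
      obtain ⟨g, rfl⟩ := QuotientGroup.mk'_surjective V g
      obtain ⟨s', hs', v, hv, he⟩ := hconj g s hs
      refine ⟨s', hs', ?_⟩
      have := congrArg π he
      rw [map_mul, map_mul, map_mul, map_inv, show π v = 1 from (QuotientGroup.eq_one_iff v).mpr hv,
        mul_one] at this
      exact this.symm
    have hSbq : IsPGroup q Sb := hS'q.map π
    have hSb1 : Sb ≠ ⊥ := by
      intro h
      rw [hSb, Subgroup.map_eq_bot_iff, hπker] at h
      have h1 : S' = ⊥ := by
        rw [← inf_eq_left.mpr h]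
        exact Coprime.inf_eq_bot_of_coprime hcop
      refine hSV ?_
      rw [h1]
      exact bot_le
    -- the q'-part of the image of `K`
    set T0 := Cfsg.pPrimeCore q Kb
    set Tb := T0.map Kb.subtype with hTb
    have hTbn : Tb.Normal := by
      have := hKbn
      exact ConjAct.normal_of_characteristic_of_normal
    have hTbcop : (Nat.card Tb).Coprime q := by
      rw [hTb, card_map_of_injective Kb.subtype_injective]
      exact Core.coprime_card_pPrimeCore
    have hKST : Kb ≤ Sb ⊔ Tb := by
      refine Coprime.le_of_forall_sylow_le fun r hr => ?_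
      have := Fact.mk hr
      by_cases hrq : r = q
      · subst hrq
        refine ⟨S.mapSurjective (π.subgroupMap_surjective K), le_sup_of_le_left ?_⟩
        rw [Sylow.coe_mapSurjective, hSb, hS', Subgroup.map_map, Subgroup.map_map]
        exact le_rfl
      · obtain ⟨P⟩ : Nonempty (Sylow r Kb) := inferInstance
        have hPn := (Group.isNilpotent_of_finite_tfae.out 0 3 rfl rfl).mp
          (hred V hVG hV.ne_bot) r inferInstance P
        refine ⟨P, le_sup_of_le_right (map_mono (Core.le_pPrimeCore ?_))⟩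
        obtain ⟨i, hi⟩ := P.2.exists_card_eq
        rw [hi]
        exact ((Nat.coprime_primes hr hq).mpr hrq).pow_left i
    have hST : Sb ⊓ Tb = ⊥ := by
      refine Coprime.inf_eq_bot_of_coprime ?_
      obtain ⟨i, hi⟩ := hSbq.exists_card_eq
      rw [hi]
      exact hTbcop.symm.pow_left i
    -- a Sylow q-subgroup of the image of `G`
    have hSbN : Sb ≤ N.map π :=
      map_mono (le_inf (hS'K.trans hKG) le_normalizer)
    obtain ⟨P, hP⟩ := (hSbq.comap_subtype (K := N.map π) :
      IsPGroup q (Sb.subgroupOf (N.map π))).exists_le_sylow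
    set P' := (P : Subgroup (N.map π)).map (N.map π).subtype with hP'
    have hSP : Sb ≤ P' := fun x hx => ⟨⟨x, hSbN hx⟩, hP hx, rfl⟩
    set S1 := ⁅Sb, P'⁆ with hS1
    have hS1lt : S1 < Sb :=
      Coprime.commutator_lt_of_isPGroup (P.2.map _) hSbq le_normalizer_of_normal hSb1
    have hgen : N.map π ≤ closure ((P' : Set (Δ ⧸ V)) ∪
        ((centralizer (Sb : Set (Δ ⧸ V)) : Subgroup (Δ ⧸ V)) : Set (Δ ⧸ V))) := by
      refine Coprime.le_of_forall_sylow_le fun r hr => ?_
      have := Fact.mk hr
      by_cases hrq : r = q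
      · subst hrq
        exact ⟨P, fun x hx => subset_closure (Or.inl hx)⟩
      · obtain ⟨R, hR⟩ := Coprime.exists_invariant_sylow (p := r) hAN (hw.coprime inf_le_left)
          (Or.inl hAsolv)
        refine ⟨R.mapSurjective (π.subgroupMap_surjective N), ?_⟩
        have hmain := WardHyp.main step (R := (R : Subgroup N).map N.subtype)
          ((map_subtype_le _).trans inf_le_left) hr (R.2.map _) hrq hR
          ((map_subtype_le _).trans inf_le_right) le_normalizer_of_normal
        rw [Sylow.coe_mapSurjective, Subgroup.map_map]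
        rintro _ ⟨x, hx, rfl⟩
        refine subset_closure (Or.inr ?_)
        rintro _ ⟨s, hs, rfl⟩
        have h1 := congrArg π (mem_centralizer_iff.mp (hmain (mem_map_of_mem _ hx)) s hs)
        rw [map_mul, map_mul] at h1
        exact h1
    have hcomm : ⁅Kb, G.map π⁆ ≤ S1 ⊔ Tb := by
      rw [commutator_le]
      intro k hk g hg
      obtain ⟨s, hs, t, ht, rfl⟩ := mem_sup_of_normal_right.mp (hKST hk)
      have e : ⁅s * t, g⁆ = s * ⁅t, g⁆ * s⁻¹ * ⁅s, g⁆ := by
        simp only [commutatorElement_def]; group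
      rw [e]
      refine mul_mem (le_sup_right (a := S1) ?_) (le_sup_left (b := Tb) ?_)
      · refine hTbn.conj_mem _ ?_ s
        rw [commutatorElement_def, mul_assoc, mul_assoc, ← mul_assoc g]
        exact Tb.mul_mem ht (hTbn.conj_mem _ (Tb.inv_mem ht) g)
      · rw [← hNG] at hg
        refine commutator_mem_of_closure (fun z _ => by
          rw [normalizer_eq_top_iff.mpr hSbn]; exact mem_top z) ?_ (hgen hg) hs
        rintro z (hz | hz) w hwS
        · exact commutator_mem_commutator hwS hz
        · rw [commutatorElement_eq_one_iff_commute.mpr (mem_centralizer_iff.mp hz w hwS)]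
          exact one_mem _
    have hle : Sb ≤ S1 := by
      intro x hx
      have hKK' : ⁅Kb, G.map π⁆ = Kb := by rw [← map_commutator, hKK]
      have h1 : x ∈ S1 ⊔ Tb := hcomm (hKK'.symm.le (map_mono hS'K hx))
      obtain ⟨s, hs, t, ht, rfl⟩ := mem_sup_of_normal_right.mp h1
      have h2 : t ∈ Sb ⊓ Tb := ⟨(Sb.mul_mem_cancel_left (hS1lt.le hs)).mp hx, ht⟩
      rw [hST, mem_bot] at h2
      rwa [h2, mul_one]
    exact hS1lt.not_ge hle

end Cfsg.Agent.FixedPointFree
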